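import Groth.Agent.IdealSh.Regular
import Groth.Prelude.Def_CurvBase
import Mathlib.RingTheory.Ideal.KrullsHeightTheorem
import Mathlib.RingTheory.DiscreteValuationRing.TFAE
import Mathlib.RingTheory.Filtration

/-!
# Dimension one along locally principal closed subschemes
-/

set_option autoImplicit false

universe u

open CategoryTheory AlgebraicGeometry TopologicalSpace
open Groth.Agent.IdealSh

namespace Groth.Agent.CartDiv.DimOne

variable {X : Scheme.{u}}

/-- A prime of the local ring is a generalisation; if it is the only one containing the equation of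
`D` it is the maximal ideal. -/
theorem maximalIdeal_mem_minimalPrimes (D : X.IdealSheafData) (ξ : X) (hξ : ξ ∈ (D.support : Set X))
    (hgen : ∀ y ∈ (D.support : Set X), y ⤳ ξ → y = ξ) {U : X.affineOpens} (hU : ξ ∈ U.1)
    {f : Γ(X, U.1)} (he : D.ideal U = Ideal.span {f}) :
    IsLocalRing.maximalIdeal (X.presheaf.stalk ξ) ∈
      (Ideal.span {X.presheaf.germ U.1 ξ hU f}).minimalPrimes := by
  have hnu : ¬ IsUnit (X.presheaf.germ U.1 ξ hU f) := fun hu => by
    have h1 : ξ ∈ X.basicOpen f := (X.mem_basicOpen f ξ hU).mpr hu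
    have h2 : ξ ∈ (X.basicOpen f : Set X) := h1
    rw [Regular.basicOpen_eq_compl_support he] at h2
    exact h2.2 hξ
  refine ⟨⟨inferInstance, (Ideal.span_singleton_le_iff_mem _).mpr
    ((IsLocalRing.mem_maximalIdeal _).mpr hnu)⟩, fun q ⟨hq, hfq⟩ _ => ?_⟩
  let pt : PrimeSpectrum (X.presheaf.stalk ξ) := ⟨q, hq⟩
  let y := X.fromSpecStalk ξ pt
  have hyξ : y ⤳ ξ := by
    have : y ∈ Set.range (X.fromSpecStalk ξ) := ⟨_, rfl⟩
    rwa [Scheme.range_fromSpecStalk] at this
  have hyU : y ∈ U.1 := hyξ.mem_open U.1.isOpen hU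
  have hys : y ∈ (D.support : Set X) := by
    by_contra hns
    have h2 : y ∈ (X.basicOpen f : Set X) := by
      rw [Regular.basicOpen_eq_compl_support he]; exact ⟨hyU, hns⟩
    have h2' : U.2.fromSpecStalk hU pt ∈ X.basicOpen f := by
      rw [U.2.fromSpecStalk_eq_fromSpecStalk hU]; exact h2
    have h3 : Spec.map (X.presheaf.germ U.1 ξ hU) pt ∈ U.2.fromSpec ⁻¹ᵁ X.basicOpen f := h2'
    rw [U.2.fromSpec_preimage_basicOpen] at h3
    exact h3 ((Ideal.span_singleton_le_iff_mem q).mp hfq)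
  have hy : y = X.fromSpecStalk ξ (IsLocalRing.closedPoint (X.presheaf.stalk ξ)) := by
    rw [Scheme.fromSpecStalk_closedPoint]; exact hgen y hys hyξ
  exact (congrArg PrimeSpectrum.asIdeal (Regular.fromSpecStalk_injective ξ hy)).ge

theorem ringKrullDim_le_one [IsLocallyNoetherian X] (D : X.IdealSheafData)
    (hD : Curv2.IsLocPrincipal D) (ξ : X) (hξ : ξ ∈ (D.support : Set X))
    (hgen : ∀ y ∈ (D.support : Set X), y ⤳ ξ → y = ξ) :
    ringKrullDim (X.presheaf.stalk ξ) ≤ 1 := by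
  obtain ⟨U, hU, f, he⟩ := hD ξ hξ
  have h := Ideal.height_le_one_of_isPrincipal_of_mem_minimalPrimes _ _
    (maximalIdeal_mem_minimalPrimes D ξ hξ hgen hU he)
  rw [← IsLocalRing.maximalIdeal_height_eq_ringKrullDim]
  exact WithBot.coe_le_coe.mpr h

theorem isLocPrincipal_of_isEffCartier {D : X.IdealSheafData} (hD : BlowUp.IsEffCartierIdeal D) :
    Curv2.IsLocPrincipal D := fun x _ => by
  obtain ⟨U, hU, f, -, he⟩ := hD x
  exact ⟨U, hU, f, he⟩

theorem ringKrullDim_eq_one [IsLocallyNoetherian X] (D : X.IdealSheafData)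
    (hD : BlowUp.IsEffCartierIdeal D) (ξ : X) (hξ : ξ ∈ (D.support : Set X))
    (hgen : ∀ y ∈ (D.support : Set X), y ⤳ ξ → y = ξ) :
    ringKrullDim (X.presheaf.stalk ξ) = 1 := by
  refine le_antisymm (ringKrullDim_le_one D (isLocPrincipal_of_isEffCartier hD) ξ hξ hgen) ?_
  by_contra hlt
  refine Regular.not_mem_support_of_maximal hD ξ (fun y hy => ?_) hξ
  have : Ring.KrullDimLE 0 (X.presheaf.stalk ξ) := by
    rw [Ring.krullDimLE_iff]
    rw [← IsLocalRing.maximalIdeal_height_eq_ringKrullDim] at hlt ⊢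
    have h : (IsLocalRing.maximalIdeal (X.presheaf.stalk ξ)).height < 1 :=
      lt_of_not_ge fun h => hlt (WithBot.coe_le_coe.mpr h)
    rw [ENat.lt_one_iff_eq_zero.mp h]; rfl
  have hy' : y ∈ Set.range (X.fromSpecStalk ξ) := by rw [Scheme.range_fromSpecStalk]; exact hy
  obtain ⟨pt, rfl⟩ := hy'
  rw [show pt = IsLocalRing.closedPoint (X.presheaf.stalk ξ) from PrimeSpectrum.ext (IsLocalRing.eq_maximalIdeal (Ideal.IsPrime.isMaximal' pt.isPrime)),
    Scheme.fromSpecStalk_closedPoint]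

/-- A Noetherian local ring with maximal ideal generated by a nonzerodivisor is a DVR. -/
theorem dvr_of_maximalIdeal_eq_span {R : Type u} [CommRing R] [IsLocalRing R] [IsNoetherianRing R]
    {a : R} (ha : a ∈ nonZeroDivisors R) (hm : IsLocalRing.maximalIdeal R = Ideal.span {a}) :
    ∃ _ : IsDomain R, IsDiscreteValuationRing R := by
  have hnu : ¬ IsUnit a := fun hu =>
    (IsLocalRing.maximalIdeal.isMaximal R).ne_top (hm ▸ Ideal.span_singleton_eq_top.mpr hu)
  have hinf := Ideal.iInf_pow_eq_bot_of_isLocalRing (IsLocalRing.maximalIdeal R)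
    (IsLocalRing.maximalIdeal.isMaximal R).ne_top
  have hdec : ∀ x : R, x ≠ 0 → ∃ (n : ℕ) (u : Rˣ), x = a ^ n * u := by
    intro x hx
    have hex : ∃ n, ¬ a ^ n ∣ x := by
      by_contra hc
      push Not at hc
      refine hx ?_
      rw [← Ideal.mem_bot, ← hinf, Ideal.mem_iInf]
      intro n
      rw [hm, Ideal.span_singleton_pow, Ideal.mem_span_singleton]
      exact hc n
    classical
    obtain ⟨c, hc⟩ : a ^ (Nat.find hex - 1) ∣ x := by
      by_contra hc
      have : Nat.find hex ≠ 0 := fun h0 => Nat.find_spec hex (by rw [h0, pow_zero]; exact one_dvd x)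
      exact Nat.find_min hex (by omega) hc
    have hcu : IsUnit c := by
      by_contra hcn
      have : c ∈ Ideal.span {a} := hm ▸ (IsLocalRing.mem_maximalIdeal c).mpr hcn
      obtain ⟨d, rfl⟩ := Ideal.mem_span_singleton.mp this
      have h0 : Nat.find hex ≠ 0 := fun h0 =>
        Nat.find_spec hex (by rw [h0, pow_zero]; exact one_dvd x)
      refine Nat.find_spec hex ⟨d, ?_⟩
      calc x = a ^ (Nat.find hex - 1) * (a * d) := hc
        _ = a ^ Nat.find hex * d := by rw [← mul_assoc, ← pow_succ, Nat.sub_one_add_one h0]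
    exact ⟨_, hcu.unit, hc⟩
  haveI : NoZeroDivisors R := ⟨fun {x y} hxy => by
    by_contra hc
    push Not at hc
    obtain ⟨n, u, rfl⟩ := hdec x hc.1
    obtain ⟨m, v, rfl⟩ := hdec y hc.2
    rw [show a ^ n * ↑u * (a ^ m * ↑v) = (↑(u * v) : R) * a ^ (n + m) by
      rw [Units.val_mul]; ring] at hxy
    exact nonZeroDivisors.ne_zero (pow_mem ha (n + m)) ((u * v).isUnit.mul_right_eq_zero.mp hxy)⟩
  haveI : IsDomain R := NoZeroDivisors.to_isDomain R
  refine ⟨inferInstance, IsDiscreteValuationRing.ofHasUnitMulPowIrreducibleFactorization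
    ⟨a, ?_, fun {x} hx => ?_⟩⟩
  · exact ((Ideal.span_singleton_prime (nonZeroDivisors.ne_zero ha)).mp
      (hm ▸ (IsLocalRing.maximalIdeal.isMaximal R).isPrime)).irreducible
  · obtain ⟨n, u, rfl⟩ := hdec x hx
    exact ⟨n, u, rfl⟩

/-- The local ring at the generic point of an integral effective Cartier divisor is a DVR. -/
theorem dvr_stalk [IsLocallyNoetherian X] (D : X.IdealSheafData) (hD : BlowUp.IsEffCartierIdeal D)
    [IsIntegral D.subscheme] (ξ : X) (hξ : IsGenericPoint ξ (D.support : Set X)) :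
    ∃ _ : IsDomain (X.presheaf.stalk ξ), IsDiscreteValuationRing (X.presheaf.stalk ξ) := by
  have hmem : ξ ∈ (D.support : Set X) := hξ.mem
  obtain ⟨U, hU, f, hf, he⟩ := hD ξ
  have hgen : ∀ y ∈ (D.support : Set X), y ⤳ ξ → y = ξ := fun y hy hy' =>
    (hy'.antisymm (hξ.specializes hy)).eq
  refine dvr_of_maximalIdeal_eq_span (Regular.germ_mem_nonZeroDivisors U.2 ξ hU hf) ?_
  -- the ideal of `D` on `U` is prime
  haveI : Nonempty (D.subschemeι ⁻¹ᵁ U.1 : D.subscheme.Opens) := by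
    obtain ⟨z, hz⟩ : ξ ∈ Set.range D.subschemeι := by
      rw [Scheme.IdealSheafData.range_subschemeι]; exact hmem
    exact ⟨⟨z, show D.subschemeι z ∈ U.1 from hz.symm ▸ hU⟩⟩
  haveI : IsDomain Γ(D.subscheme, D.subschemeι ⁻¹ᵁ U.1) := inferInstance
  haveI hp : (Ideal.span {f}).IsPrime := by
    rw [← he, ← D.ker_subschemeι_app U]
    exact RingHom.ker_isPrime _
  letI := X.presheaf.algebra_section_stalk ⟨ξ, hU⟩
  haveI := U.2.isLocalization_stalk ⟨ξ, hU⟩
  have hmap : (Ideal.span {f}).map (algebraMap Γ(X, U.1) (X.presheaf.stalk ξ)) =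
      Ideal.span {X.presheaf.germ U.1 ξ hU f} := by
    rw [Ideal.map_span, Set.image_singleton]; rfl
  have hmin := maximalIdeal_mem_minimalPrimes D ξ hmem hgen hU he
  have hdisj : Disjoint ((U.2.primeIdealOf ⟨ξ, hU⟩).asIdeal.primeCompl : Set Γ(X, U.1))
      (Ideal.span {f} : Set Γ(X, U.1)) := by
    refine Set.disjoint_left.mpr fun b hb hbf => hb ?_
    have h1 : algebraMap Γ(X, U.1) (X.presheaf.stalk ξ) b ∈
        IsLocalRing.maximalIdeal (X.presheaf.stalk ξ) :=
      hmin.1.2 (hmap ▸ Ideal.mem_map_of_mem _ hbf)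
    exact (IsLocalization.AtPrime.to_map_mem_maximal_iff (X.presheaf.stalk ξ)
      (U.2.primeIdealOf ⟨ξ, hU⟩).asIdeal b).mp h1
  haveI := IsLocalization.isPrime_of_isPrime_disjoint (U.2.primeIdealOf ⟨ξ, hU⟩).asIdeal.primeCompl
    (X.presheaf.stalk ξ) (Ideal.span {f}) hp hdisj
  rw [← hmap]
  exact le_antisymm (hmin.2 ⟨inferInstance, hmap.ge⟩ (hmap ▸ hmin.1.2)) (hmap ▸ hmin.1.2)

end Groth.Agent.CartDiv.DimOne
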