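import Groth.Agent.WeakAssPush.Basic
import Groth.Agent.AssSch.Basic
import Groth.Agent.QCoh.FiniteType
import Mathlib.RingTheory.QuasiFinite.Basic
import Mathlib.RingTheory.Ideal.GoingUp
import Groth.Prelude.Def_CohB1
import Mathlib.RingTheory.Ideal.AssociatedPrime.Finiteness
import Groth.Prelude.Def_Coh

/-!
# Weakly associated points: direct images, supports, finiteness
-/

set_option autoImplicit false

universe u

open CategoryTheory AlgebraicGeometry TopologicalSpace
open Groth.Agent.PullStalk.Sky Groth.Agent.Props.QStalk Groth.Agent.QCoh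

namespace Groth.Agent.CartDiv.WeakPts

section Algebra

variable {A B : Type*} [CommRing A] [CommRing B] [Algebra A B]
variable {N : Type*} [AddCommGroup N] [Module A N] [Module B N] [IsScalarTower A B N]

/-- Weakly associated primes go down along finite ring maps (no Noetherian hypothesis). -/
theorem comap_mem_weakAss_of_finite [Module.Finite A B] {q : Ideal B}
    (hq : q ∈ FlatCA.weakAss B N) : q.comap (algebraMap A B) ∈ FlatCA.weakAss A N := by
  classical
  obtain ⟨n, hn⟩ := hq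
  have := hn.1.1
  set J := (Submodule.span B {n}).annihilator
  obtain ⟨hJq, hmin⟩ := WeakAss.minimalPrimes_iff.mp hn
  set p := q.comap (algebraMap A B) with hp
  have hfin : (p.primesOver B).Finite := Algebra.QuasiFinite.finite_primesOver p
  set T := hfin.toFinset.erase q with hT
  have hsep : ∀ Q ∈ T, ∃ b, b ∉ q ∧ ∃ t, t ∉ Q ∧ b * t ∈ J := by
    intro Q hQ
    obtain ⟨hne, hQ'⟩ := Finset.mem_erase.mp hQ
    obtain ⟨hQp, hQo⟩ := hfin.mem_toFinset.mp hQ'
    have : ¬ q ≤ Q := fun hle => by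
      rcases hle.eq_or_lt with h | h
      · exact hne h.symm
      · exact (Ideal.comap_lt_comap_of_integral_mem_sdiff hle
          (Set.exists_of_ssubset h).choose_spec (Algebra.IsIntegral.isIntegral _)).ne hQo.over
    obtain ⟨x, hxq, hxQ⟩ := SetLike.not_le_iff_exists.mp this
    obtain ⟨s, hs, k, hk⟩ := hmin x hxq
    exact ⟨s, hs, x ^ k, fun h => hxQ (hQp.mem_of_pow_mem k h), hk⟩
  choose! b hb t ht hbt using hsep
  let c := ∏ Q ∈ T, b Q
  have hc : c ∉ q := fun h => by
    obtain ⟨Q, hQ, hQ'⟩ := (Ideal.IsPrime.prod_mem_iff (hp := hn.1.1)).mp h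
    exact hb Q hQ hQ'
  have hpp : p.IsPrime := inferInstance
  refine WeakAss.mem_weakAss_iff.mpr ⟨c • n, fun a ha => ?_, fun a ha => ?_⟩
  · have : algebraMap A B a * c ∈ q := hJq (WeakAss.mem_ann.mpr (by
      rw [mul_smul, algebraMap_smul]; exact ha))
    exact (hn.1.1.mem_or_mem this).resolve_right hc
  · obtain ⟨s, hs, k, hk⟩ := hmin (algebraMap A B a) ha
    let K : Ideal B := J.colon {c * algebraMap A B a ^ k}
    have hK : ∀ y, y ∈ K ↔ y * (c * algebraMap A B a ^ k) ∈ J := fun y =>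
      Submodule.mem_colon_singleton
    by_contra hcon
    push Not at hcon
    have hle : K.comap (algebraMap A B) ≤ p := fun x hx => by
      by_contra hxp
      refine hcon x hxp k ?_
      have := WeakAss.mem_ann.mp ((hK _).mp hx)
      rw [show algebraMap A B x * (c * algebraMap A B a ^ k) =
        algebraMap A B (x * a ^ k) * c by rw [map_mul, map_pow]; ring, mul_smul,
        algebraMap_smul] at this
      exact this
    obtain ⟨Q, hKQ, hQ, hQp⟩ := Ideal.exists_ideal_over_prime_of_isIntegral p K hle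
    by_cases he : Q = q
    · subst he
      refine hs (hKQ ((hK s).mpr ?_))
      rw [show s * (c * algebraMap A B a ^ k) = c * (s * algebraMap A B a ^ k) by ring]
      exact J.mul_mem_left _ hk
    · have hQT : Q ∈ T := Finset.mem_erase.mpr ⟨he, hfin.mem_toFinset.mpr ⟨hQ, ⟨hQp.symm⟩⟩⟩
      refine ht Q hQT (hKQ ((hK _).mpr ?_))
      obtain ⟨d, hd⟩ : b Q ∣ c := Finset.dvd_prod_of_mem b hQT
      rw [hd, show t Q * (b Q * d * algebraMap A B a ^ k) = (d * algebraMap A B a ^ k) * (b Q * t Q) by ring]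
      exact J.mul_mem_left _ (hbt Q hQT)

/-- Weakly associated primes of a submodule of a finite product. -/
theorem weakAss_subset_of_jointly_injective {ι : Type*} [Finite ι] {M : Type*} [AddCommGroup M]
    [Module A M] {P : ι → Type*} [∀ i, AddCommGroup (P i)] [∀ i, Module A (P i)]
    (φ : ∀ i, M →ₗ[A] P i) (hφ : ∀ m, (∀ i, φ i m = 0) → m = 0) {p : Ideal A}
    (hp : p ∈ FlatCA.weakAss A M) : ∃ i, p ∈ FlatCA.weakAss A (P i) := by
  classical
  have := Fintype.ofFinite ι
  obtain ⟨m, hm⟩ := hp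
  have hprime := hm.1.1
  have hinf : (Submodule.span A {m}).annihilator =
      Finset.univ.inf (fun i => (Submodule.span A {φ i m}).annihilator) := by
    ext a
    simp only [WeakAss.mem_ann, Submodule.mem_finsetInf, Finset.mem_univ, true_imp_iff]
    exact ⟨fun h i => by rw [← map_smul, h, map_zero],
      fun h => hφ _ fun i => by rw [map_smul]; exact h i⟩
  obtain ⟨i, -, hi⟩ := hprime.inf_le'.mp (hinf ▸ hm.1.2)
  refine ⟨i, φ i m, ⟨hprime, hi⟩, fun q hq hqp => hm.2 ⟨hq.1, ?_⟩ hqp⟩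
  rw [hinf]
  exact (Finset.inf_le (Finset.mem_univ i)).trans hq.2

theorem weakAss_finite_of_finite {R M : Type*} [CommRing R] [IsNoetherianRing R] [AddCommGroup M]
    [Module R M] [Module.Finite R M] : (FlatCA.weakAss R M).Finite := by
  refine (associatedPrimes.finite R M).subset fun p hp => ?_
  have := WeakAss.isPrime_of_mem hp
  obtain ⟨-, m, hm⟩ := WeakAss.mem_ass_of_fg (IsNoetherian.noetherian p) hp
  exact ⟨this, m, by rw [Submodule.colon_span.symm.trans (Submodule.bot_colon (N := Submodule.span R {m})), ← hm, this.radical]⟩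

end Algebra

variable {X S : Scheme.{u}}

/-- Weakly associated points of the direct image lie in the image. -/
theorem exists_preimage (f : X ⟶ S) [QuasiCompact f] [QuasiSeparated f] (F : X.Modules)
    [F.IsQuasicoherent] (s : S)
    (hs : Curv2.IsWeakAssPoint ((Scheme.Modules.pushforward f).obj F) s) :
    ∃ x : X, f x = s ∧ Curv2.IsWeakAssPoint F x := by
  have := isQuasicoherent_pushforward f F
  obtain ⟨V, hV, hsV, -⟩ := exists_isAffineOpen_mem_and_subset (Opens.mem_top s)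
  obtain ⟨T, hTfin, hT⟩ := (isCompact_iff_finite_and_eq_biUnion_affineOpens (U := f ⁻¹ᵁ V)).mp
    (QuasiCompact.isCompact_preimage (f := f) _ V.2 hV.isCompact)
  have hle : ∀ U : T, (U.1 : X.Opens) ≤ f ⁻¹ᵁ V := fun U ↦
    (le_iSup₂ (f := fun i (_ : i ∈ T) ↦ (i : X.Opens)) U.1 U.2).trans hT.ge
  have : Finite T := hTfin.to_subtype
  let : ∀ U : T, Module Γ(S, V) Γ(F, (U.1 : X.Opens)) := fun U ↦
    Module.compHom _ ((rres (hle U)).hom.comp (f.app V).hom)
  let φ : ∀ U : T, Γ((Scheme.Modules.pushforward f).obj F, V) →ₗ[Γ(S, V)] Γ(F, (U.1 : X.Opens)) :=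
    fun U ↦
    { toFun := fun s ↦ res F (hle U) (unPush f F s)
      map_add' := fun a b ↦ map_add _ _ _
      map_smul' := fun r a ↦ by rw [push_smul, res_smul]; rfl }
  have hφ : ∀ m, (∀ U, φ U m = 0) → m = 0 := fun m hm ↦
    eq_zero_of_locally_eq_zero F hle (hT.le.trans (iSup₂_le fun i hi ↦ le_iSup
      (fun U : T ↦ (U.1 : X.Opens)) ⟨i, hi⟩)) (unPush f F m) hm
  rw [WeakAssSch.isWeakAssPoint_iff_mem _ hV s hsV] at hs
  obtain ⟨U, hU⟩ := weakAss_subset_of_jointly_injective φ hφ hs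
  let : Algebra Γ(S, V) Γ(X, (U.1 : X.Opens)) := ((rres (hle U)).hom.comp (f.app V).hom).toAlgebra
  have : IsScalarTower Γ(S, V) Γ(X, (U.1 : X.Opens)) Γ(F, (U.1 : X.Opens)) :=
    IsScalarTower.of_algebraMap_smul fun _ _ ↦ rfl
  obtain ⟨q, hq, he⟩ := WeakAssPush.weakAss_subset_image (B := Γ(X, (U.1 : X.Opens))) hU
  haveI := WeakAss.isPrime_of_mem hq
  obtain ⟨x, hx, rfl⟩ := WeakAssSch.exists_point_of_prime U.1.2 q
  refine ⟨x, ?_, (WeakAssSch.isWeakAssPoint_iff_mem F U.1.2 x hx).mpr hq⟩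
  exact Groth.Agent.AssSch.Basic.eq_of_primeOf_eq hV (hle U hx) hsV ((congrArg PrimeSpectrum.asIdeal
    (IsAffineOpen.comap_primeIdealOf_appLE V hV U.1.1 U.1.2 (hle U) hx)).symm.trans he)

/-- Weakly associated points map to weakly associated points of a finite direct image. -/
theorem isWeakAssPoint_push_finite (f : X ⟶ S) [IsFinite f] (F : X.Modules) [F.IsQuasicoherent]
    (x : X) (hx : Curv2.IsWeakAssPoint F x) :
    Curv2.IsWeakAssPoint ((Scheme.Modules.pushforward f).obj F) (f x) := by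
  obtain ⟨V, hV, hsV, -⟩ := exists_isAffineOpen_mem_and_subset (Opens.mem_top (f x))
  have hW : IsAffineOpen (f ⁻¹ᵁ V) := hV.preimage f
  have := isQuasicoherent_pushforward f F
  letI : Algebra Γ(S, V) Γ(X, f ⁻¹ᵁ V) := (f.app V).hom.toAlgebra
  have : Module.Finite Γ(S, V) Γ(X, f ⁻¹ᵁ V) := IsFinite.finite_app f V hV
  letI : Module Γ(X, f ⁻¹ᵁ V) Γ((Scheme.Modules.pushforward f).obj F, V) :=
    inferInstanceAs (Module Γ(X, f ⁻¹ᵁ V) Γ(F, f ⁻¹ᵁ V))
  haveI : IsScalarTower Γ(S, V) Γ(X, f ⁻¹ᵁ V) Γ((Scheme.Modules.pushforward f).obj F, V) :=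
    IsScalarTower.of_algebraMap_smul fun r m => (QCoh.push_smul f F r m).symm
  rw [WeakAssSch.isWeakAssPoint_iff_mem F hW x hsV] at hx
  refine (WeakAssSch.isWeakAssPoint_iff_mem _ hV (f x) hsV).mpr ?_
  have hp := IsAffineOpen.comap_primeIdealOf_appLE V hV (f ⁻¹ᵁ V) hW le_rfl hsV
  rw [← Scheme.Hom.app_eq_appLE] at hp
  rw [← hp]
  exact comap_mem_weakAss_of_finite (A := Γ(S, V)) (B := Γ(X, f ⁻¹ᵁ V))
    (N := Γ((Scheme.Modules.pushforward f).obj F, V)) hx

/-- A maximal point of the support is weakly associated. -/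
theorem isWeakAssPoint_of_maximal (F : X.Modules) [F.IsQuasicoherent] (x : X)
    (hx : x ∈ CohB1.support F) (hmax : ∀ y ∈ CohB1.support F, y ⤳ x → y = x) :
    Curv2.IsWeakAssPoint F x := by
  obtain ⟨V, hV, hxV, -⟩ := exists_isAffineOpen_mem_and_subset (Opens.mem_top x)
  letI := moduleSections F hxV
  have := isLocalizedModule_germLin F hxV hV
  obtain ⟨t, ht⟩ : ∃ t : F.presheaf.stalk x, t ≠ 0 := by
    by_contra h
    push Not at h
    exact hx ⟨fun a b => (h a).trans (h b).symm⟩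
  set p := (hV.primeIdealOf ⟨x, hxV⟩).asIdeal with hp
  obtain ⟨⟨m, c⟩, hm⟩ := IsLocalizedModule.surj p.primeCompl (germLin F hxV) t
  have hm0 : germLin F hxV m ≠ 0 := fun h0 => by
    rw [h0] at hm
    exact ht (((Module.End.isUnit_iff _).mp (IsLocalizedModule.map_units (germLin F hxV) c)).1
      (hm.trans (map_zero _).symm))
  set J := (Submodule.span Γ(X, V) {m}).annihilator
  have hJp : J ≤ p := fun a ha => by
    by_contra hap
    exact hm0 ((IsLocalizedModule.eq_zero_iff p.primeCompl (germLin F hxV)).mpr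
      ⟨⟨a, hap⟩, WeakAss.mem_ann.mp ha⟩)
  obtain ⟨q, hq, hqp⟩ := Ideal.exists_minimalPrimes_le hJp
  have := hq.1.1
  obtain ⟨y, hy, rfl⟩ := WeakAssSch.exists_point_of_prime hV q
  have hyw : Curv2.IsWeakAssPoint F y :=
    (WeakAssSch.isWeakAssPoint_iff_mem F hV y hy).mpr ⟨m, hq⟩
  have hys : y ∈ CohB1.support F := fun hs => by
    obtain ⟨m', hm'⟩ := hyw
    rw [Subsingleton.elim m' 0, LinearMap.toSpanSingleton_zero, LinearMap.ker_zero,
      Ideal.radical_top] at hm'
    exact (IsLocalRing.maximalIdeal.isMaximal _).ne_top hm'.symm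
  rw [hmax y hys ((Groth.Agent.AssSch.Basic.primeOf_le_iff hV y x hy hxV).mp hqp)] at hyw
  exact hyw

/-- Finitely many weakly associated points on a quasi-compact open. -/
theorem finite_weakAssPoints [IsLocallyNoetherian X] (F : X.Modules) (hF : Coh.IsCoh F)
    (U : X.Opens) (hU : IsCompact (U : Set X)) :
    {x : X | x ∈ U ∧ Curv2.IsWeakAssPoint F x}.Finite := by
  have := hF.1
  have := hF.2
  obtain ⟨T, hTfin, hT⟩ := (isCompact_iff_finite_and_eq_biUnion_affineOpens (U := U)).mp hU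
  refine (hTfin.biUnion (t := fun V => {x : X | x ∈ (V : X.Opens) ∧ Curv2.IsWeakAssPoint F x})
    fun V hV => ?_).subset fun x ⟨hx, hxw⟩ => ?_
  · haveI : IsNoetherianRing Γ(X, V) := IsLocallyNoetherian.component_noetherian V
    haveI := finite_sections_of_isFiniteType F (U := V.1) V.2
    refine Set.Finite.subset ((weakAss_finite_of_finite (R := Γ(X, V)) (M := Γ(F, V))).biUnion (t := fun p => {x : X | ∃ hx : x ∈ (V : X.Opens), (V.2.primeIdealOf ⟨x, hx⟩).asIdeal = p}) fun p _ => ?_) fun x ⟨hx, hxw⟩ => ?_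
    · refine Set.Subsingleton.finite fun a ⟨ha, ea⟩ b ⟨hb, eb⟩ => ?_
      exact Groth.Agent.AssSch.Basic.eq_of_primeOf_eq V.2 ha hb (ea.trans eb.symm)
    · exact Set.mem_biUnion ((WeakAssSch.isWeakAssPoint_iff_mem F V.2 x hx).mp hxw) ⟨hx, rfl⟩
  · obtain ⟨V, hV, hxV⟩ := Set.mem_iUnion₂.mp (by rw [hT] at hx; simpa using hx : x ∈ ⋃ V ∈ T, ((V : X.Opens) : Set X))
    exact Set.mem_biUnion hV ⟨hxV, hxw⟩

end Groth.Agent.CartDiv.WeakPts
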