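import Groth.Agent.IdealSh.Regular
import Groth.Agent.IdealSh.Extend
import Mathlib.AlgebraicGeometry.Noetherian

/-!
# Effective Cartier divisors from stalks
-/

set_option autoImplicit false

universe u

open CategoryTheory AlgebraicGeometry TopologicalSpace
open Groth.Agent.IdealSh

namespace Groth.Agent.CartDiv.Local

variable {X : Scheme.{u}}

/-- A finitely generated ideal which is principal regular after localizing at a prime is so on a
basic open around it. -/
theorem exists_away {R : Type u} [CommRing R] [IsNoetherianRing R] (I : Ideal R) (p : Ideal R)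
    [p.IsPrime] {S : Type u} [CommRing S] [Algebra R S] [IsLocalization.AtPrime S p] {g : S}
    (hg : g ∈ nonZeroDivisors S) (h : I.map (algebraMap R S) = Ideal.span {g}) :
    ∃ (s a : R), s ∉ p ∧ a ∈ I ∧ (∀ x ∈ I, ∃ c, s * x = c * a) ∧ ∀ y, a * y = 0 → s * y = 0 := by
  classical
  obtain ⟨⟨⟨a, ha⟩, t⟩, hat⟩ := (IsLocalization.mem_map_algebraMap_iff p.primeCompl S).mp
    (h.ge (Ideal.mem_span_singleton_self g))
  have hu := IsLocalization.map_units S t
  have hga : Ideal.span {algebraMap R S a} = Ideal.span {g} := by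
    rw [← hat]; exact Ideal.span_singleton_mul_right_unit hu g
  have hanz : algebraMap R S a ∈ nonZeroDivisors S := hat ▸ mul_mem hg hu.mem_nonZeroDivisors
  -- generators of `I` become multiples of `a`
  have h1 : ∀ x ∈ I, ∃ s ∉ p, ∃ c, s * x = c * a := fun x hx => by
    obtain ⟨d, hd⟩ := Ideal.mem_span_singleton'.mp
      (hga.ge (h.le (Ideal.mem_map_of_mem _ hx)))
    obtain ⟨c, u, rfl⟩ := IsLocalization.exists_mk'_eq p.primeCompl d
    have : algebraMap R S ((u : R) * x) = algebraMap R S (c * a) := by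
      rw [map_mul, map_mul, ← hd, ← mul_assoc, mul_comm (algebraMap R S u), IsLocalization.mk'_spec]
    obtain ⟨w, hw⟩ := (IsLocalization.eq_iff_exists p.primeCompl S).mp this
    exact ⟨w * u, p.primeCompl.mul_mem w.2 u.2, w * c, by rw [mul_assoc, hw, mul_assoc]⟩
  have h2 : ∀ y, a * y = 0 → ∃ s ∉ p, s * y = 0 := fun y hy => by
    have h0 : algebraMap R S y * algebraMap R S a = 0 := by
      rw [← map_mul, mul_comm, hy, map_zero]
    have h3 := mem_nonZeroDivisors_iff_right.mp hanz _ h0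
    obtain ⟨w, hw⟩ := (IsLocalization.map_eq_zero_iff p.primeCompl S y).mp h3
    exact ⟨w, w.2, hw⟩
  let K : Ideal R := LinearMap.ker (LinearMap.mulLeft R a)
  obtain ⟨G, hG⟩ := IsNoetherian.noetherian I
  obtain ⟨H, hH⟩ := IsNoetherian.noetherian K
  choose! s hs c hc using fun x (hx : x ∈ G) => h1 x (hG ▸ Submodule.subset_span hx)
  choose! t' ht' hty using fun y (hy : y ∈ H) => h2 y
    (show y ∈ K from hH ▸ Submodule.subset_span hy)
  let σ := (∏ x ∈ G, s x) * ∏ y ∈ H, t' y
  refine ⟨σ, a, p.primeCompl.mul_mem (prod_mem fun x hx => hs x hx) (prod_mem fun y hy => ht' y hy),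
    ha, fun x hx => ?_, fun y hy => ?_⟩
  · rw [← hG] at hx
    induction hx using Submodule.span_induction with
    | mem x hx =>
      obtain ⟨d, hd⟩ := (Finset.dvd_prod_of_mem s hx).trans (dvd_mul_right _ (∏ y ∈ H, t' y))
      exact ⟨d * c x, by show σ * x = _; rw [show σ = _ from hd, mul_comm (s x), mul_assoc, hc x hx, mul_assoc]⟩
    | zero => exact ⟨0, by simp⟩
    | add x y _ _ hx hy =>
      obtain ⟨c₁, e₁⟩ := hx; obtain ⟨c₂, e₂⟩ := hy
      exact ⟨c₁ + c₂, by rw [mul_add, e₁, e₂, add_mul]⟩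
    | smul r x _ hx =>
      obtain ⟨c₁, e₁⟩ := hx
      exact ⟨r * c₁, by rw [smul_eq_mul, mul_left_comm, e₁, mul_assoc]⟩
  · suffices h : ∀ y ∈ Submodule.span R (H : Set R), σ * y = 0 from h y (hH.symm ▸ (hy : y ∈ K))
    intro y hy'
    induction hy' using Submodule.span_induction with
    | mem x hx =>
      obtain ⟨d, hd⟩ := (Finset.dvd_prod_of_mem t' hx).trans (dvd_mul_left _ (∏ x ∈ G, s x))
      rw [show σ = _ from hd, mul_comm (t' x), mul_assoc, hty x hx, mul_zero]
    | zero => exact mul_zero _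
    | add x y hx hy ix iy => rw [mul_add, ix, iy, add_zero]
    | smul r x hx ih => rw [smul_eq_mul, mul_left_comm, ih, mul_zero]

theorem isEffCartier_of_stalks [IsLocallyNoetherian X] (D : X.IdealSheafData)
    (h : ∀ x ∈ D.support, ∀ (U : X.affineOpens) (hx : x ∈ (U : X.Opens)),
      ∃ g : X.presheaf.stalk x, g ∈ nonZeroDivisors (X.presheaf.stalk x) ∧
        (D.ideal U).map (X.presheaf.germ U x hx).hom = Ideal.span {g}) :
    BlowUp.IsEffCartierIdeal D := by
  intro x
  by_cases hxs : x ∈ D.support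
  swap
  · obtain ⟨V, hxV, hle⟩ := Comap.exists_affine_le x D.support.compl hxs
    refine ⟨V, hxV, 1, one_mem _, ?_⟩
    rw [Ideal.span_singleton_one]
    refine Extend.ideal_eq_top_of_disjoint (U := D.support.compl) ?_ V hle
    exact disjoint_compl_right
  obtain ⟨U, hxU, -⟩ := Comap.exists_affine_le x ⊤ trivial
  obtain ⟨g, hg, he⟩ := h x hxs U hxU
  letI := X.presheaf.algebra_section_stalk ⟨x, hxU⟩
  haveI := U.2.isLocalization_stalk ⟨x, hxU⟩
  haveI : IsNoetherianRing Γ(X, U.1) := IsLocallyNoetherian.component_noetherian U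
  obtain ⟨s, a, hs, ha, hgen, hann⟩ := exists_away (D.ideal U) (U.2.primeIdealOf ⟨x, hxU⟩).asIdeal
    (S := X.presheaf.stalk x) hg he
  have hxs' : x ∈ X.basicOpen s := by
    rw [X.mem_basicOpen s x hxU]
    exact (IsLocalization.AtPrime.isUnit_to_map_iff (X.presheaf.stalk x)
      (U.2.primeIdealOf ⟨x, hxU⟩).asIdeal s).mpr hs
  let V := X.affineBasicOpen s
  have hle : V.1 ≤ U.1 := X.basicOpen_le s
  let r := (X.presheaf.map (homOfLE hle).op).hom
  have hsu : IsUnit (r s) := RingedSpace.isUnit_res_basicOpen _ _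
  refine ⟨V, hxs', r a, mem_nonZeroDivisors_iff_right.mpr fun z hz => ?_, ?_⟩
  · letI : Algebra Γ(X, U.1) Γ(X, V.1) := r.toAlgebra
    haveI : IsLocalization.Away s Γ(X, V.1) := U.2.isLocalization_basicOpen s
    obtain ⟨⟨z', t⟩, ht⟩ := IsLocalization.surj (Submonoid.powers s) z
    have h0 : algebraMap Γ(X, U.1) Γ(X, V.1) (a * z') = 0 := by
      rw [map_mul, ← ht, ← mul_assoc, mul_comm _ z]
      exact mul_eq_zero_of_left hz _
    obtain ⟨⟨w, m, rfl⟩, hm⟩ := (IsLocalization.map_eq_zero_iff (Submonoid.powers s) _ _).mp h0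
    have h1 : s ^ (m + 1) * z' = 0 := by
      rw [pow_succ', mul_assoc]
      refine hann _ ?_
      rw [← hm]
      show a * (s ^ m * z') = s ^ m * (a * z')
      ring
    have h2 : algebraMap Γ(X, U.1) Γ(X, V.1) z' = 0 :=
      (IsLocalization.map_eq_zero_iff (Submonoid.powers s) _ _).mpr ⟨⟨_, m + 1, rfl⟩, h1⟩
    rw [h2] at ht
    exact (IsLocalization.map_units _ t).mul_left_eq_zero.mp ht
  · rw [← D.map_ideal (U := V) (V := U) hle]
    refine le_antisymm (Ideal.map_le_iff_le_comap.mpr fun y hy => ?_)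
      ((Ideal.span_singleton_le_iff_mem _).mpr (Ideal.mem_map_of_mem _ ha))
    obtain ⟨c, hc⟩ := hgen y hy
    refine Ideal.mem_span_singleton'.mpr ⟨↑hsu.unit⁻¹ * r c, ?_⟩
    calc ↑hsu.unit⁻¹ * r c * r a = ↑hsu.unit⁻¹ * r (s * y) := by rw [hc, map_mul, mul_assoc]
      _ = r y := by rw [map_mul, ← mul_assoc, IsUnit.val_inv_mul, one_mul]

end Groth.Agent.CartDiv.Local
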