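import Mathlib.AlgebraicGeometry.Morphisms.Affine
import Mathlib.AlgebraicGeometry.Stalk
import Mathlib.RingTheory.Ideal.MinimalPrime.Noetherian
import Mathlib.RingTheory.KrullDimension.Basic
import Mathlib.RingTheory.Localization.AtPrime.Basic

/-!
# Quasi-compact opens of affine schemes of dimension at most one
-/

set_option autoImplicit false

universe u

open CategoryTheory AlgebraicGeometry TopologicalSpace

namespace Groth.Agent.CartDiv.AffineDimOne

/-- In a one-dimensional Noetherian local ring every ideal is, up to radical, principal. -/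
theorem exists_radical_principal {R : Type u} [CommRing R] [IsLocalRing R] [IsNoetherianRing R]
    [Ring.KrullDimLE 1 R] (I : Ideal R) : ∃ f ∈ I, I ≤ (Ideal.span {f}).radical := by
  classical
  by_cases hI : I = ⊤
  · exact ⟨1, hI ▸ trivial, by rw [Ideal.span_singleton_one]; exact le_top.trans Ideal.le_radical⟩
  let S := (minimalPrimes.finite_of_isNoetherianRing R).toFinset.filter fun q => ¬ I ≤ q
  obtain ⟨f, hfI, hf⟩ : ∃ f ∈ I, ∀ q ∈ S, f ∉ q := by
    by_contra hc
    push Not at hc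
    have hsub : (I : Set R) ⊆ ⋃ q ∈ (S : Set (Ideal R)), (q : Set R) := fun x hx => by
      obtain ⟨q, hq, hxq⟩ := hc x hx
      exact Set.mem_biUnion (Finset.mem_coe.mpr hq) hxq
    obtain ⟨q, hq, hmq⟩ := (Ideal.subset_union_prime ⊥ ⊥ (fun q hq _ _ =>
      Ideal.minimalPrimes_isPrime ((minimalPrimes.finite_of_isNoetherianRing R).mem_toFinset.mp
        (Finset.mem_filter.mp hq).1))).mp hsub
    exact (Finset.mem_filter.mp hq).2 hmq
  refine ⟨f, hfI, ?_⟩
  rw [Ideal.radical_eq_sInf]
  refine le_sInf fun q ⟨hfq, hq⟩ => ?_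
  rcases Ring.krullDimLE_one_iff.mp ‹_› q hq with h | h
  · by_contra hn
    exact hf q (Finset.mem_filter.mpr
      ⟨(minimalPrimes.finite_of_isNoetherianRing R).mem_toFinset.mpr h, hn⟩)
      ((Ideal.span_singleton_le_iff_mem _).mp hfq)
  · rw [IsLocalRing.eq_maximalIdeal h]
    exact IsLocalRing.le_maximalIdeal hI

theorem isAffineOpen (X : Scheme.{u}) [IsAffine X]
    (hX : ∀ x : X, IsNoetherianRing (X.presheaf.stalk x) ∧ ringKrullDim (X.presheaf.stalk x) ≤ 1)
    (U : X.Opens) (hU : IsCompact (U : Set X)) : IsAffineOpen U := by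
  classical
  have hT := isAffineOpen_top X
  obtain ⟨G, hG⟩ : ∃ G : Finset Γ(X, ⊤), (U : Set X) = ⋃ g ∈ G, (X.basicOpen g : Set X) := by
    have h : ∀ x : U, ∃ g : Γ(X, ⊤), X.basicOpen g ≤ U ∧ x.1 ∈ X.basicOpen g := fun x =>
      hT.exists_basicOpen_le x trivial
    choose g hgU hxg using h
    obtain ⟨t, ht⟩ := hU.elim_finite_subcover (fun x : U => (X.basicOpen (g x) : Set X))
      (fun x => (X.basicOpen (g x)).isOpen) (fun x hx => Set.mem_iUnion.mpr ⟨⟨x, hx⟩, hxg _⟩)
    refine ⟨t.image g, subset_antisymm (fun x hx => ?_) (fun x hx => ?_)⟩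
    · obtain ⟨i, hi, hx'⟩ := Set.mem_iUnion₂.mp (ht hx)
      exact Set.mem_iUnion₂.mpr ⟨g i, Finset.mem_image_of_mem g hi, hx'⟩
    · obtain ⟨i, hi, hx'⟩ := Set.mem_iUnion₂.mp hx
      obtain ⟨j, -, rfl⟩ := Finset.mem_image.mp hi
      exact hgU j hx'
  have : IsAffineHom U.ι := by
    refine isAffineHom_of_forall_exists_isAffineOpen _ fun x => ?_
    obtain ⟨hN, hd⟩ := hX x
    haveI : Ring.KrullDimLE 1 (X.presheaf.stalk x) := Ring.krullDimLE_iff.mpr (by exact_mod_cast hd)
    letI := X.presheaf.algebra_section_stalk (U := ⊤) ⟨x, trivial⟩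
    haveI := hT.isLocalization_stalk ⟨x, trivial⟩
    set p := (hT.primeIdealOf ⟨x, trivial⟩).asIdeal
    obtain ⟨f', hf'I, hf'⟩ := exists_radical_principal
      ((Ideal.span (G : Set Γ(X, ⊤))).map (algebraMap Γ(X, ⊤) (X.presheaf.stalk x)))
    obtain ⟨⟨⟨f, hf⟩, t⟩, hft⟩ := (IsLocalization.mem_map_algebraMap_iff p.primeCompl
      (X.presheaf.stalk x)).mp hf'I
    -- multipliers
    have hmul : ∀ g ∈ G, ∃ s ∉ p, ∃ (k : ℕ) (c : Γ(X, ⊤)), s * g ^ k = c * f := fun g hg => by
      obtain ⟨k, hk⟩ := hf' (Ideal.mem_map_of_mem _ (Ideal.subset_span (Finset.mem_coe.mpr hg)))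
      have hu := IsLocalization.map_units (X.presheaf.stalk x) t
      rw [← Ideal.span_singleton_mul_right_unit hu f', hft, Ideal.mem_span_singleton'] at hk
      obtain ⟨d, hd⟩ := hk
      obtain ⟨c, u, rfl⟩ := IsLocalization.exists_mk'_eq p.primeCompl d
      have : algebraMap Γ(X, ⊤) (X.presheaf.stalk x) ((u : Γ(X, ⊤)) * g ^ k) =
          algebraMap Γ(X, ⊤) (X.presheaf.stalk x) (c * f) := by
        rw [map_mul, map_mul, map_pow, ← hd, ← mul_assoc,
          mul_comm (algebraMap Γ(X, ⊤) _ (u : Γ(X, ⊤))), IsLocalization.mk'_spec]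
      obtain ⟨w, hw⟩ := (IsLocalization.eq_iff_exists p.primeCompl (X.presheaf.stalk x)).mp this
      exact ⟨w * u, p.primeCompl.mul_mem w.2 u.2, k, w * c, by rw [mul_assoc, hw, mul_assoc]⟩
    choose! s hs k c hc using hmul
    let σ := ∏ g ∈ G, s g
    have hσ : σ ∉ p := p.primeCompl.prod_mem fun g hg => hs g hg
    refine ⟨X.basicOpen σ, ?_, hT.basicOpen σ, ?_⟩
    · rw [X.mem_basicOpen σ x trivial]
      exact (IsLocalization.AtPrime.isUnit_to_map_iff (X.presheaf.stalk x) p σ).mpr hσ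
    rw [← U.ι.isAffineOpen_iff_of_isOpenImmersion, Scheme.Hom.image_preimage_eq_opensRange_inf,
      Scheme.Opens.opensRange_ι]
    have e : U ⊓ X.basicOpen σ = X.basicOpen (f * σ) := by
      rw [Scheme.basicOpen_mul]
      refine le_antisymm (le_inf (fun y hy => ?_) inf_le_right) (le_inf (fun y hy => ?_) inf_le_right)
      · obtain ⟨hyU, hyσ⟩ := hy
        obtain ⟨g, hg, hyg⟩ := Set.mem_iUnion₂.mp (hG ▸ (hyU : y ∈ (U : Set X)))
        have h1 : IsUnit (X.presheaf.germ ⊤ y trivial (s g * g ^ k g)) := by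
          rw [map_mul, map_pow]
          refine IsUnit.mul ?_ (((X.mem_basicOpen g y trivial).mp hyg).pow _)
          have h2 := (X.mem_basicOpen σ y trivial).mp hyσ
          obtain ⟨d, hd⟩ : s g ∣ σ := Finset.dvd_prod_of_mem s hg
          rw [hd, map_mul] at h2
          exact isUnit_of_mul_isUnit_left h2
        rw [hc g hg, map_mul] at h1
        exact (X.mem_basicOpen f y trivial).mpr (isUnit_of_mul_isUnit_right h1)
      · obtain ⟨hyf, -⟩ := hy
        by_contra hn
        refine (X.mem_basicOpen f y trivial).mp hyf |> fun h => ?_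
        have hle : Ideal.span (G : Set Γ(X, ⊤)) ≤
            (IsLocalRing.maximalIdeal (X.presheaf.stalk y)).comap (X.presheaf.germ ⊤ y trivial).hom := by
          rw [Ideal.span_le]
          intro g hg
          rw [SetLike.mem_coe, Ideal.mem_comap, IsLocalRing.mem_maximalIdeal]
          intro hu
          exact hn (show y ∈ (U : Set X) by
            rw [hG]; exact Set.mem_biUnion (Finset.mem_coe.mp hg) ((X.mem_basicOpen g y trivial).mpr hu))
        exact (IsLocalRing.mem_maximalIdeal _).mp (hle hf) h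
    rw [e]
    exact hT.basicOpen _
  exact isAffine_of_isAffineHom U.ι

end Groth.Agent.CartDiv.AffineDimOne
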