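import Groth.Agent.Props.AmpleGG
import Groth.Agent.GalCohAux.AmpleFinite

/-!
# Sections of high twists generating at finitely many points
-/

set_option autoImplicit false

universe u

open CategoryTheory Limits AlgebraicGeometry Opposite TopologicalSpace

noncomputable section

namespace Groth.Agent.CartDiv.Avoid

open Groth.Agent.QCoh Groth.Agent.Props.GenLocus Groth.Agent.Props.GenTensor Groth.Agent.Props.GenProd
  Groth.Agent.Props.GenExt Groth.Agent.AmpleLib

variable {X : Scheme.{u}}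

lemma mem_locus_add {M : X.Modules} (hM : PicF.IsInvertible M) {O : X.Opens} (σ τ : Γ(M, O)) {x : X}
    (hxO : x ∈ O) (hs : x ∉ locus σ) (ht : x ∈ locus τ) : x ∈ locus (σ + τ) := by
  obtain ⟨V, e, hxV, he⟩ := exists_isGen hM x
  let W := V ⊓ O
  have hxW : x ∈ W := ⟨hxV, hxO⟩
  have he' := he.restrict (inf_le_left : W ≤ V)
  obtain ⟨a, ha, -⟩ := he'.exists_eq le_rfl (res M (inf_le_right : W ≤ O) σ)
  obtain ⟨b, hb, -⟩ := he'.exists_eq le_rfl (res M (inf_le_right : W ≤ O) τ)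
  rw [res_self] at ha hb
  have hab : res M (inf_le_right : W ≤ O) (σ + τ) = (a + b) • res M (inf_le_left : W ≤ V) e := by
    rw [map_add, ha, hb, add_smul]
  have h1 : x ∉ X.basicOpen a := fun h => hs (locus_inf _ he' σ ha ▸ h : x ∈ locus σ ⊓ W).1
  have h2 : x ∈ X.basicOpen b := locus_inf _ he' τ hb ▸ (⟨ht, hxW⟩ : x ∈ locus τ ⊓ W)
  refine (locus_inf _ he' (σ + τ) hab ▸ ?_ : x ∈ locus (σ + τ) ⊓ W).1
  rw [Scheme.mem_basicOpen _ _ x hxW] at h1 h2 ⊢
  rw [map_add]
  by_contra h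
  exact (IsLocalRing.mem_maximalIdeal _).mp (add_sub_cancel_left (X.presheaf.germ W x hxW a)
    (X.presheaf.germ W x hxW b) ▸ sub_mem ((IsLocalRing.mem_maximalIdeal _).mpr h)
      ((IsLocalRing.mem_maximalIdeal _).mpr h1)) h2

theorem exists_section_at {M : X.Modules} (hM : PicF.IsInvertible M) [X.IsSeparated] {U : X.Opens}
    (hUc : IsCompact (U : Set X)) [U.toScheme.IsQuasiAffine] (E : Finset X) (hE : (E : Set X) ⊆ U) :
    ∃ σ : Γ(M, U), (E : Set X) ⊆ locus σ := by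
  classical
  induction hn : E.card using Nat.strong_induction_on generalizing E with
  | _ n ih =>
    rcases E.eq_empty_or_nonempty with rfl | hne
    · exact ⟨0, by simp⟩
    obtain ⟨z, hz, hmax⟩ := GalCohAux.AmpleFinite.exists_notMem_closure hne
    obtain ⟨σ, hσ⟩ := ih (E.erase z).card (hn ▸ Finset.card_erase_lt_of_mem hz) (E.erase z)
      (fun y hy => hE (Finset.mem_of_mem_erase hy)) rfl
    by_cases hzs : z ∈ locus σ
    · exact ⟨σ, fun y hy => if h : y = z then h ▸ hzs else hσ (Finset.mem_erase.mpr ⟨h, hy⟩)⟩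
    let O : X.Opens := ⟨(⋃ y ∈ (E.erase z : Set X), closure {y})ᶜ,
      ((E.erase z).finite_toSet.isClosed_biUnion fun y _ => isClosed_closure).isOpen_compl⟩
    have hzO : z ∈ O := fun hc => by
      obtain ⟨y, hy, hzy⟩ := Set.mem_iUnion₂.mp hc
      exact Finset.ne_of_mem_erase hy (hmax y (Finset.mem_of_mem_erase hy) hzy)
    obtain ⟨V, e, hzV, he⟩ := exists_isGen hM z
    obtain ⟨_, ⟨_, ⟨g', -, rfl⟩, rfl⟩, hzg, hg'⟩ := (Scheme.IsQuasiAffine.isBasis_basicOpen U.toScheme).exists_subset_of_mem_open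
      (show (⟨z, hE hz⟩ : U.toScheme) ∈ U.ι ⁻¹ᵁ (V ⊓ O) from ⟨hzV, hzO⟩) (U.ι ⁻¹ᵁ (V ⊓ O)).isOpen
    obtain ⟨g, hg⟩ : ∃ g : Γ(X, U), X.basicOpen g = U.ι ''ᵁ U.toScheme.basicOpen g' :=
      ⟨U.topIso.hom g', by
        rw [← U.ι_image_basicOpen_topIso_inv, ← ConcreteCategory.comp_apply, Iso.hom_inv_id]; rfl⟩
    have hgVO : X.basicOpen g ≤ V ⊓ O := by
      rw [hg]
      rintro _ ⟨w, hw, rfl⟩
      exact hg' hw
    have hzg' : z ∈ X.basicOpen g := by rw [hg]; exact ⟨_, hzg, rfl⟩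
    have hgen := he.restrict (hgVO.trans inf_le_left)
    obtain ⟨ρ, hρ⟩ := exists_locus_eq hM hUc (.of_quasiSeparatedSpace _) g rfl
      (res M (hgVO.trans inf_le_left) e)
    have hzρ : z ∈ locus ρ := by rw [hρ]; exact le_locus le_rfl (by rw [res_self]; exact hgen) hzg'
    refine ⟨σ + ρ, fun y hy => ?_⟩
    by_cases h : y = z
    · subst h; exact mem_locus_add hM σ ρ (hE hy) hzs hzρ
    · rw [add_comm]
      have hy' : y ∈ E.erase z := Finset.mem_erase.mpr ⟨h, hy⟩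
      refine mem_locus_add hM ρ σ (hE hy) (fun hyρ => ?_) (hσ hy')
      rw [hρ] at hyρ
      exact (hgVO (locus_le _ hyρ)).2 (Set.mem_biUnion hy' (subset_closure rfl))

variable {L L' : X.Modules}

local notation "𝒩" => fun n : ℕ => CohB1.tensorMod (CohB1.tensorPow L n) L'

/-- Twists by large multiples of a fixed power have sections generating at given points. -/
theorem exists_twist_section [CompactSpace X] [X.IsSeparated] (hL : PicF.IsInvertible L)
    (hL' : PicF.IsInvertible L') {k : ℕ} (s : Coh.structureModule X ⟶ CohB1.tensorPow L k)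
    [(CohB1.genLocus _ s).toScheme.IsQuasiAffine] (hUc : IsCompact (CohB1.genLocus _ s : Set X))
    (r : ℕ) (E : Finset X) (hE : (E : Set X) ⊆ CohB1.genLocus _ s) :
    ∃ N : ℕ, ∀ M, N ≤ M →
      ∃ t : Coh.structureModule X ⟶ CohB1.tensorPow ((𝒩) (k * M + r)) 1,
        (E : Set X) ⊆ CohB1.genLocus _ t := by
  obtain ⟨p, W, e, f, hW, he, hf, hcov⟩ := Props.AmpleGG.exists_frame_cover₂ hL hL'
  let F := Props.AmpleTensor.FrameMap2.powTensor L L' r
  have hN : PicF.IsInvertible ((𝒩) r) := Props.AmpleTensor.isInvertible hL hL' F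
  set U := CohB1.genLocus _ s with hU
  obtain ⟨σ, hσE⟩ := exists_section_at hN hUc E hE
  -- its coefficients
  have hgen : ∀ i, IsGen ((𝒩) r) (W i) (F.φ (e i) (f i)) := fun i => F.isGen (he i) (hf i)
  choose c hc hc' using fun i => (hgen i).exists_eq (inf_le_right : U ⊓ W i ≤ W i)
    (res _ (inf_le_left : U ⊓ W i ≤ U) σ)
  have hu : ∀ i j, ∃ u : Γ(X, W i ⊓ W j),
      res L (inf_le_right : W i ⊓ W j ≤ W j) (e j) = u • res L (inf_le_left : W i ⊓ W j ≤ W i) (e i) :=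
    fun i j => let ⟨u, _, hu⟩ := exists_unit_smul ((he i).restrict _) ((he j).restrict _); ⟨u, hu⟩
  have hv : ∀ i j, ∃ v : Γ(X, W i ⊓ W j),
      res L' (inf_le_right : W i ⊓ W j ≤ W j) (f j) = v • res L' (inf_le_left : W i ⊓ W j ≤ W i) (f i) :=
    fun i j => let ⟨v, _, hv⟩ := exists_unit_smul ((hf i).restrict _) ((hf j).restrict _); ⟨v, hv⟩
  choose u hu using hu
  choose v hv using hv
  obtain ⟨N, hN'⟩ := Props.AmpleCoeff.extend_coeff W hW U (fun i => co k (sec s ⊤) le_top (he i))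
    (fun i => genLocus_inf_eq (he i) s) c (fun i j => u i j ^ k) (fun i j => u i j ^ r * v i j)
    (fun i j => by rw [co_res, co_res]; exact co_of_eq_smul _ _ _ _ (hu i j))
    (fun i j => by
      have h1 := congrArg (res _ (inf_le_inf_left U (inf_le_left : W i ⊓ W j ≤ W i))) (hc i)
      have h2 := congrArg (res _ (inf_le_inf_left U (inf_le_right : W i ⊓ W j ≤ W j))) (hc j)
      have h3 : res ((𝒩) r) (inf_le_right.trans inf_le_right : U ⊓ (W i ⊓ W j) ≤ W j) (F.φ (e j) (f j)) =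
          rres (inf_le_right : U ⊓ (W i ⊓ W j) ≤ W i ⊓ W j) (u i j ^ r * v i j) •
            res ((𝒩) r) (inf_le_right.trans inf_le_left : U ⊓ (W i ⊓ W j) ≤ W i) (F.φ (e i) (f i)) := by
        have h4 := F.φ_smul (u i j) (v i j) (res L (inf_le_left : W i ⊓ W j ≤ W i) (e i))
          (res L' (inf_le_left : W i ⊓ W j ≤ W i) (f i))
        rw [← hu i j, ← hv i j, ← F.res_φ, ← F.res_φ, pow_one] at h4
        have h5 := congrArg (res ((𝒩) r) (inf_le_right : U ⊓ (W i ⊓ W j) ≤ W i ⊓ W j)) h4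
        rwa [res_smul, res_res, res_res] at h5
      rw [res_res, res_smul, res_res] at h1 h2
      rw [h3, smul_smul] at h2
      refine (hgen i).injective (inf_le_right.trans inf_le_left) ?_
      rw [← h1, h2, mul_comm])
  refine ⟨N + 1, fun M hM => ?_⟩
  obtain ⟨a, ha, hac⟩ := hN' M (by omega)
  let G := Props.AmpleTensor.FrameMap2.powTensor L L' (k * M + r)
  have hG : ∀ i, IsGen ((𝒩) (k * M + r)) (W i) (G.φ (e i) (f i)) := fun i => G.isGen (he i) (hf i)
  obtain ⟨t, ht⟩ := exists_hom_of_cover (L := (𝒩) (k * M + r)) W hcov (fun i => G.φ (e i) (f i)) hG 1 a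
    fun i j w hw => by
      have h4 := G.φ_smul (u i j) (v i j) (res L (inf_le_left : W i ⊓ W j ≤ W i) (e i))
        (res L' (inf_le_left : W i ⊓ W j ≤ W i) (f i))
      rw [← hu i j, ← hv i j, ← G.res_φ, ← G.res_φ, pow_one] at h4
      obtain rfl : w = u i j ^ (k * M + r) * v i j :=
        (hG i).injective (inf_le_left : W i ⊓ W j ≤ W i) (hw.symm.trans h4)
      rw [hac i j, pow_one, pow_add, ← pow_mul]
      ring
  refine ⟨t, fun y hy => ?_⟩
  obtain ⟨i, hi⟩ := Opens.mem_iSup.mp (hcov (trivial : y ∈ (⊤ : X.Opens)))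
  have h1 : y ∈ X.basicOpen (c i) := by
    rw [← locus_inf (inf_le_left : U ⊓ W i ≤ U) ((hgen i).restrict inf_le_right) σ (hc i)]
    exact ⟨hσE hy, hE hy, hi⟩
  have h2 : y ∈ X.basicOpen (rres (inf_le_right : U ⊓ W i ≤ W i) (co k (sec s ⊤) le_top (he i))) := by
    rw [Scheme.basicOpen_res, ← genLocus_inf_eq (he i) s]
    exact ⟨⟨hE hy, hi⟩, hE hy, hi⟩
  have h3 : y ∈ X.basicOpen (rres (inf_le_right : U ⊓ W i ≤ W i) (a i)) := by
    rw [ha i, Scheme.basicOpen_mul, Scheme.basicOpen_pow _ _ (by omega : 0 < M)]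
    exact ⟨h2, h1⟩
  rw [Scheme.basicOpen_res, ← (ht i).2] at h3
  exact h3.2.1

/-- Sections of `Lⁿ` and `Lⁿ ⊗ L'` generating at finitely many points, for one `n`. -/
theorem exists_two_sections (hL : CohB1.IsAmple L) (hL' : PicF.IsInvertible L') (E : Finset X)
    (hne : E.Nonempty) :
    ∃ (n : ℕ) (t : Coh.structureModule X ⟶ CohB1.tensorPow ((𝒩) n) 1)
      (t' : Coh.structureModule X ⟶ CohB1.tensorPow L n),
      (E : Set X) ⊆ CohB1.genLocus _ t ∧ (E : Set X) ⊆ CohB1.genLocus _ t' := by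
  haveI := hL.2.1
  haveI := Props.AmpleBase.isSeparated_of_isAmple hL
  obtain ⟨K, s, hs⟩ := GalCohAux.AmpleFinite.exists_nonvanishing hL E hne
  haveI := Props.AmpleBase.isQuasiAffine_genLocus hL (Nat.succ_pos K) s
  obtain ⟨N, hN⟩ := exists_twist_section hL.1 hL' s (Props.AmpleBase.isCompact_genLocus hL.1 s) 0 E hs
  obtain ⟨t, ht⟩ := hN (N + 1) (by omega)
  obtain ⟨t', ht'⟩ := exists_pow hL.1 s (N + 1) ((K + 1) * (N + 1) + 0) (by rw [Nat.add_zero])
  exact ⟨_, t, t', ht, by rw [genLocus_pow hL.1 s (Nat.succ_pos N) t' ht']; exact hs⟩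

end Groth.Agent.CartDiv.Avoid

end
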