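import Groth.Agent.CartDiv.Avoid
import Groth.Agent.CartDiv.WeakPts
import Groth.Agent.IdealSh.IdealMod
import Groth.Agent.IdealSh.GenericPts
import Groth.Agent.ZeroSchemeLib.Basic
import Groth.Agent.AmpleLib.GenIso
import Groth.Agent.HomShQC.Stalk

/-!
# An invertible module is a difference of effective Cartier divisors
-/

set_option autoImplicit false

universe u

open CategoryTheory Limits AlgebraicGeometry Opposite TopologicalSpace

noncomputable section

namespace Groth.Agent.CartDiv.Difference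

open Groth.Agent.QCoh Groth.Agent.Props.GenLocus Groth.Agent.Props.GenTensor Groth.Agent.Props.GenProd
  Groth.Agent.Props.GenExt Groth.Agent.AmpleLib OmegaSh Groth.Agent.Omega.Stalks

variable {X : Scheme.{u}}

lemma mem_nonZeroDivisors_of_genLocus {P : X.Modules} {W : X.Opens} (hW : IsAffineOpen W) {p : Γ(P, W)}
    (hp : IsGen P W p) (s : Coh.structureModule X ⟶ P) {a : Γ(X, W)} (ha : sec s W = a • p)
    (hs : ∀ x : X, Curv2.IsWeakAssPoint (Coh.structureModule X) x → x ∈ CohB1.genLocus _ s) :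
    a ∈ nonZeroDivisors Γ(X, W) := by
  rw [mem_nonZeroDivisors_iff_left]
  intro y hy
  by_contra hy0
  obtain ⟨x, hx, hne, hass⟩ := IdealSh.GenericPts.exists_isWeakAssPoint hW hy0
  have h1 : x ∈ X.basicOpen a := by
    rw [← genLocus_inf hp s ha]
    exact ⟨hs x hass, hx⟩
  have h2 := congrArg (X.presheaf.germ W x hx) hy
  rw [map_mul, map_zero] at h2
  exact hne (((X.mem_basicOpen a x hx).mp h1).mul_right_eq_zero.mp h2)

lemma exists_isGen_ideal (D : X.IdealSheafData) {U : X.affineOpens} {f : Γ(X, U.1)}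
    (hf : f ∈ nonZeroDivisors Γ(X, U.1)) (he : D.ideal U = Ideal.span {f}) :
    ∃ σ : Γ(ClSub.idealMod D, U.1), IsGen (ClSub.idealMod D) U.1 σ ∧ idealSect D U.1 σ = f := by
  obtain ⟨e, hfr, he'⟩ := IdealSh.IdealMod.exists_isFrame_of_equation D hf he
  refine ⟨e 0, (isGen_iff_isFrame (e 0)).mpr ?_, he'⟩
  have : (fun _ : Fin 1 => e 0) = e := funext fun i => by rw [Subsingleton.elim i 0]
  rw [this]
  exact hfr

theorem exists_difference [IsNoetherian X] {L : X.Modules} (hL : CohB1.IsAmple L) {N : X.Modules}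
    (hN : PicF.IsInvertible N) (E : Set X) (hE : E.Finite) :
    ∃ D D' : X.IdealSheafData, BlowUp.IsEffCartierIdeal D ∧ BlowUp.IsEffCartierIdeal D' ∧
      Disjoint E (D.support : Set X) ∧ Disjoint E (D'.support : Set X) ∧
      Nonempty (CohB1.tensorMod N (ClSub.idealMod D) ≅ ClSub.idealMod D') := by
  classical
  haveI := hL.2.1
  haveI := Props.AmpleBase.isSeparated_of_isAmple hL
  have hAss : {x : X | x ∈ (⊤ : X.Opens) ∧ Curv2.IsWeakAssPoint (Coh.structureModule X) x}.Finite :=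
    WeakPts.finite_weakAssPoints _ HomShQC.isCoh_structureModule ⊤ isCompact_univ
  let F := hE.toFinset ∪ hAss.toFinset
  obtain ⟨n, t, t', ht, ht'⟩ : ∃ (n : ℕ)
      (t : Coh.structureModule X ⟶ CohB1.tensorPow (CohB1.tensorMod (CohB1.tensorPow L n) N) 1)
      (t' : Coh.structureModule X ⟶ CohB1.tensorPow L n),
      (F : Set X) ⊆ CohB1.genLocus _ t ∧ (F : Set X) ⊆ CohB1.genLocus _ t' := by
    rcases F.eq_empty_or_nonempty with h | h
    · exact ⟨0, 0, 0, by simp [h], by simp [h]⟩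
    · exact Avoid.exists_two_sections hL hN F h
  have hP : PicF.IsInvertible (CohB1.tensorPow (CohB1.tensorMod (CohB1.tensorPow L n) N) 1) :=
    isInvertible_tensorPow (isInvertible_tensorMod (isInvertible_tensorPow hL.1 n) hN) 1
  obtain ⟨k, W, e, f, hW, he, hf, hcov⟩ := Props.AmpleGG.exists_frame_cover₂ hL.1 hN
  let G := Props.AmpleTensor.FrameMap2.powTensor L N n
  have hG : ∀ i, IsGen (CohB1.tensorMod (CohB1.tensorPow L n) N) (W i) (G.φ (e i) (f i)) :=
    fun i => G.isGen (he i) (hf i)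
  let a : ∀ i, Γ(X, W i) := fun i => co 1 (sec t ⊤) le_top (hG i)
  let b : ∀ i, Γ(X, W i) := fun i => co n (sec t' ⊤) le_top (he i)
  have ha : ∀ i, sec t (W i) = a i • pw _ (G.φ (e i) (f i)) 1 := fun i => by
    rw [← sec_res t le_top]; exact co_spec _ _ _
  have hb : ∀ i, sec t' (W i) = b i • pw _ (e i) n := fun i => by
    rw [← sec_res t' le_top]; exact co_spec _ _ _
  have hass : ∀ x : X, Curv2.IsWeakAssPoint (Coh.structureModule X) x → x ∈ (F : Set X) := fun x hx =>
    Finset.mem_coe.mpr (Finset.mem_union_right _ (hAss.mem_toFinset.mpr ⟨trivial, hx⟩))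
  have han : ∀ i, a i ∈ nonZeroDivisors Γ(X, W i) := fun i =>
    mem_nonZeroDivisors_of_genLocus (hW i) (isGen_pw (hG i) 1) t (ha i) fun x hx => ht (hass x hx)
  have hbn : ∀ i, b i ∈ nonZeroDivisors Γ(X, W i) := fun i =>
    mem_nonZeroDivisors_of_genLocus (hW i) (isGen_pw (he i) n) t' (hb i) fun x hx => ht' (hass x hx)
  let D := PicF2.zeroScheme _ t
  let D' := PicF2.zeroScheme _ t'
  have hD : ∀ i, D.ideal ⟨W i, hW i⟩ = Ideal.span {a i} := fun i =>
    ZeroSchemeLib.zeroScheme_ideal_eq_span hP t ⟨W i, hW i⟩ (isGen_pw (hG i) 1) (ha i)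
  have hD' : ∀ i, D'.ideal ⟨W i, hW i⟩ = Ideal.span {b i} := fun i =>
    ZeroSchemeLib.zeroScheme_ideal_eq_span (isInvertible_tensorPow hL.1 n) t' ⟨W i, hW i⟩
      (isGen_pw (he i) n) (hb i)
  have hmem : ∀ x : X, ∃ i, x ∈ W i := fun x =>
    Opens.mem_iSup.mp (hcov (trivial : x ∈ (⊤ : X.Opens)))
  have hdisj : ∀ {P : X.Modules} (s : Coh.structureModule X ⟶ P) (J : X.IdealSheafData)
      (p : ∀ i, Γ(P, W i)) (c : ∀ i, Γ(X, W i)), (∀ i, IsGen P (W i) (p i)) →
      (∀ i, sec s (W i) = c i • p i) → (∀ i, J.ideal ⟨W i, hW i⟩ = Ideal.span {c i}) →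
      (F : Set X) ⊆ CohB1.genLocus _ s → Disjoint E (J.support : Set X) := by
    intro P s J p c hp hc hJ hFs
    refine Set.disjoint_left.mpr fun x hxE hxJ => ?_
    obtain ⟨i, hi⟩ := hmem x
    have h1 : x ∈ (X.basicOpen (c i) : Set X) := by
      rw [← genLocus_inf (hp i) s (hc i)]
      exact ⟨hFs (Finset.mem_union_left _ (hE.mem_toFinset.mpr hxE)), hi⟩
    rw [IdealSh.Regular.basicOpen_eq_compl_support (hJ i)] at h1
    exact h1.2 hxJ
  refine ⟨D, D', fun x => ?_, fun x => ?_, hdisj t D _ a (fun i => isGen_pw (hG i) 1) ha hD ht,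
    hdisj t' D' _ b (fun i => isGen_pw (he i) n) hb hD' ht', ?_⟩
  · obtain ⟨i, hi⟩ := hmem x
    exact ⟨⟨W i, hW i⟩, hi, a i, han i, hD i⟩
  · obtain ⟨i, hi⟩ := hmem x
    exact ⟨⟨W i, hW i⟩, hi, b i, hbn i, hD' i⟩
  choose σ hσ hσa using fun i => exists_isGen_ideal D (han i) (hD i)
  choose τ hτ hτb using fun i => exists_isGen_ideal D' (hbn i) (hD' i)
  obtain ⟨φ, -⟩ := exists_iso_of_gen (M := CohB1.tensorMod N (ClSub.idealMod D))
    (N := ClSub.idealMod D') W hcov (fun i => tmul (f i) (σ i)) (fun i => isGen_tmul (hf i) (hσ i))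
    τ hτ fun i j V hi hj w hw => by
    obtain ⟨u, hu, hue⟩ := exists_unit_smul ((he i).restrict hi) ((he j).restrict hj)
    obtain ⟨v, hv, hvf⟩ := exists_unit_smul ((hf i).restrict hi) ((hf j).restrict hj)
    have hGe : res _ hj (G.φ (e j) (f j)) = (u ^ n * v) • res _ hi (G.φ (e i) (f i)) := by
      rw [G.res_φ, G.res_φ, hue, hvf, G.φ_smul, pow_one]
    have hA : rres hi (a i) = (u ^ n * v) * rres hj (a j) := by
      show rres hi (co _ _ _ _) = _ * rres hj (co _ _ _ _)
      rw [co_res, co_res, co_of_eq_smul (sec t ⊤) le_top ((hG i).restrict hi) ((hG j).restrict hj) hGe, pow_one]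
    have hB : rres hi (b i) = u ^ n * rres hj (b j) := by
      show rres hi (co _ _ _ _) = _ * rres hj (co _ _ _ _)
      rw [co_res, co_res, co_of_eq_smul (sec t' ⊤) le_top ((he i).restrict hi) ((he j).restrict hj) hue]
    have hsect : ∀ (J : X.IdealSheafData) {O : X.Opens} (h : V ≤ O) (m : Γ(ClSub.idealMod J, O)),
        idealSect J V (res _ h m) = rres h (idealSect J O m) := fun J O h m => idealSect_map J (homOfLE h) m
    have hσij : res _ hi (σ i) = (u ^ n * v) • res _ hj (σ j) :=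
      idealSect_injective D V (by rw [hsect, hσa, idealSect_smul, hsect, hσa, hA])
    have hτij : res _ hi (τ i) = u ^ n • res _ hj (τ j) :=
      idealSect_injective D' V (by rw [hsect, hτb, idealSect_smul, hsect, hτb, hB])
    rw [res_tmul, res_tmul, hσij, hvf, tmul_smul_left, tmul_smul_right, smul_smul] at hw
    have hvw : v = w * (u ^ n * v) :=
      (isGen_tmul ((hf i).restrict hi) ((hσ j).restrict hj)).injective le_rfl (by rw [res_self]; exact hw)
    have h1 : w * u ^ n = 1 := hv.mul_left_injective (by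
      show w * u ^ n * v = 1 * v
      rw [one_mul, mul_assoc]; exact hvw.symm)
    rw [hτij, smul_smul, h1, one_smul]
  exact ⟨φ⟩

end Groth.Agent.CartDiv.Difference

end
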