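import Groth.Agent.CartDiv.Local
import Groth.Agent.IdealSh.CodimOne
import Groth.Agent.AssSch.Basic
import Mathlib.AlgebraicGeometry.Morphisms.QuasiCompact

/-!
# Extension of effective Cartier divisors across factorial points
-/

set_option autoImplicit false

universe u

open CategoryTheory AlgebraicGeometry TopologicalSpace
open Groth.Agent.IdealSh

namespace Groth.Agent.CartDiv.ExtendUFD

/-- In a factorial ring a prime killing a class modulo a nonzero principal ideal is principal. -/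
theorem exists_span_of_colon {R : Type u} [CommRing R] [IsDomain R] [UniqueFactorizationMonoid R]
    (P : Ideal R) [P.IsPrime] {g e : R} (hg : g ≠ 0) (hgP : g ∈ P)
    (hne : e ∉ Ideal.span {g}) (hP : ∀ t ∈ P, t * e ∈ Ideal.span {g}) :
    ∃ π : R, P = Ideal.span {π} := by
  obtain ⟨b, a, h, hrel, rfl, rfl⟩ := UniqueFactorizationMonoid.exists_reduced_factors' e g hg
  have hh : h ≠ 0 := fun h0 => hg (by rw [h0, zero_mul])
  have hle : P ≤ Ideal.span {a} := fun t ht => by
    obtain ⟨d, hd⟩ := Ideal.mem_span_singleton.mp (hP t ht)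
    rw [Ideal.mem_span_singleton]
    have : a ∣ t * b := ⟨d, mul_left_cancel₀ hh (by linear_combination hd)⟩
    exact hrel.symm.dvd_of_dvd_mul_right this
  have ha : ¬ IsUnit a := fun hu => hne (by
    rw [Ideal.mem_span_singleton]
    exact mul_dvd_mul_left h hu.dvd)
  have ha0 : a ≠ 0 := fun h0 => hg (by rw [h0, mul_zero])
  obtain ⟨π, hπ, hπa⟩ := WfDvdMonoid.exists_irreducible_factor ha ha0
  have hπ' := UniqueFactorizationMonoid.irreducible_iff_prime.mp hπ
  have hPπ : P ≤ Ideal.span {π} := hle.trans (Ideal.span_singleton_le_span_singleton.mpr hπa)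
  obtain ⟨q, hqP, hq⟩ := Ideal.IsPrime.exists_mem_prime_of_ne_bot (I := P) inferInstance
    (fun h0 => hg (by rw [h0] at hgP; exact hgP))
  refine ⟨π, le_antisymm hPπ ((Ideal.span_singleton_le_iff_mem _).mpr ?_)⟩
  obtain ⟨u, hu⟩ := hπ'.associated_of_dvd hq (Ideal.mem_span_singleton.mp (hPπ hqP))
  rw [← hu] at hqP
  exact ((Ideal.IsPrime.mem_or_mem inferInstance hqP).resolve_right fun hP' =>
    Ideal.IsPrime.ne_top ‹_› (Ideal.eq_top_of_isUnit_mem _ hP' u.isUnit))

variable {X : Scheme.{u}}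

/-- Stalk ideals do not depend on the affine chart. -/
theorem map_germ_eq (D : X.IdealSheafData) {V W : X.affineOpens} {y : X} (hV : y ∈ V.1) (hW : y ∈ W.1) :
    (D.ideal V).map (X.presheaf.germ V.1 y hV).hom = (D.ideal W).map (X.presheaf.germ W.1 y hW).hom := by
  obtain ⟨T, hyT, hT⟩ := Comap.exists_affine_le y (V.1 ⊓ W.1) ⟨hV, hW⟩
  have key : ∀ (S : X.affineOpens) (hS : y ∈ S.1) (h : T.1 ≤ S.1),
      (D.ideal S).map (X.presheaf.germ S.1 y hS).hom = (D.ideal T).map (X.presheaf.germ T.1 y hyT).hom := by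
    intro S hS h
    rw [← D.map_ideal (U := T) (V := S) h, Ideal.map_map]
    congr 1
    exact congrArg CommRingCat.Hom.hom (X.presheaf.germ_res (homOfLE h) y hyT).symm
  exact (key V hV (hT.trans inf_le_left)).trans (key W hW (hT.trans inf_le_right)).symm

theorem exists_extension [IsLocallyNoetherian X] (U : X.Opens)
    (D : (U : Scheme.{u}).IdealSheafData) (hD : BlowUp.IsEffCartierIdeal D)
    (hufd : ∀ x : X, x ∉ U → IsDomain (X.presheaf.stalk x) ∧ UniqueFactorizationMonoid (X.presheaf.stalk x)) :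
    ∃ D' : X.IdealSheafData, BlowUp.IsEffCartierIdeal D' ∧ D'.comap U.ι = D := by
  haveI : QuasiCompact U.ι := inferInstance
  have hcm : (D.map U.ι).comap U.ι = D := Extend.comap_map _ _
  refine ⟨D.map U.ι, Local.isEffCartier_of_stalks _ fun x _ V hxV => ?_, hcm⟩
  -- at points of `U`
  have hin : ∀ y : X, y ∈ U → ∀ (W : X.affineOpens) (hy : y ∈ W.1),
      ∃ g : X.presheaf.stalk y, g ∈ nonZeroDivisors (X.presheaf.stalk y) ∧
        ((D.map U.ι).ideal W).map (X.presheaf.germ W.1 y hy).hom = Ideal.span {g} := by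
    intro y hyU W hy
    obtain ⟨T, hyT, hTU, f, hf, he⟩ := EffCartier.exists_equation hD (⟨y, hyU⟩ : U) ⊤ trivial
    rw [← hcm, Scheme.IdealSheafData.ideal_comap_of_isOpenImmersion] at he
    let T' : X.affineOpens := ⟨U.ι ''ᵁ T.1, T.2.image_of_isOpenImmersion _⟩
    have hy' : y ∈ T'.1 := ⟨⟨y, hyU⟩, hyT, rfl⟩
    refine ⟨X.presheaf.germ T'.1 y hy' ((U.ι.appIso T.1).inv f), ?_, ?_⟩
    · refine Regular.germ_mem_nonZeroDivisors T'.2 y hy' ?_
      exact EffCartier.map_mem_nonZeroDivisors_of_flat _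
        (RingHom.Flat.of_bijective (ConcreteCategory.bijective_of_isIso (U.ι.appIso T.1).inv)) hf
    · rw [map_germ_eq _ hy hy', ← Ideal.map_comap_of_surjective (U.ι.appIso T.1).inv.hom
        (ConcreteCategory.bijective_of_isIso (U.ι.appIso T.1).inv).2 ((D.map U.ι).ideal T'), he,
        Ideal.map_map, Ideal.map_span, Set.image_singleton]
      rfl
  by_cases hxU : x ∈ U
  · exact hin x hxU V hxV
  obtain ⟨hdom, hufd'⟩ := hufd x hxU
  letI := X.presheaf.algebra_section_stalk ⟨x, hxV⟩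
  haveI := V.2.isLocalization_stalk ⟨x, hxV⟩
  haveI : IsNoetherianRing Γ(X, V.1) := IsLocallyNoetherian.component_noetherian V
  set J := (D.map U.ι).ideal V with hJ
  set p := (V.2.primeIdealOf ⟨x, hxV⟩).asIdeal
  haveI : IsNoetherianRing (X.presheaf.stalk x) :=
    IsLocalization.isNoetherianRing p.primeCompl _ inferInstance
  let alg := algebraMap Γ(X, V.1) (X.presheaf.stalk x)
  -- points under associated primes lie in `U` and give principal ideals
  have hass : ∀ P ∈ associatedPrimes (X.presheaf.stalk x) (X.presheaf.stalk x ⧸ J.map alg),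
      ∃ (g e : X.presheaf.stalk x), g ≠ 0 ∧ g ∈ P ∧ g ∈ J.map alg ∧ e ∉ Ideal.span {g} ∧
        ∀ t ∈ P, t * e ∈ Ideal.span {g} := by
    intro P hP
    haveI := hP.1
    obtain ⟨r, hr⟩ := CodimOne.exists_colon p J hP
    set q := P.comap alg with hq
    haveI : q.IsPrime := Ideal.IsPrime.comap _
    obtain ⟨y, hyV, hyq⟩ := WeakAssSch.exists_point_of_prime V.2 q
    have hyU : y ∈ U := by
      by_contra hyU
      have hrJ : r ∉ J := fun h => hP.1.ne_top ((Ideal.eq_top_iff_one _).mpr (by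
        have : (1 : Γ(X, V.1)) ∈ P.comap alg := (hr 1).mpr (by rwa [one_mul])
        rwa [Ideal.mem_comap, map_one] at this))
      refine hrJ ((Extend.mem_map_iff U.ι D V r).mpr fun T e => ?_)
      let K : Ideal Γ(U, T.1) := (D.ideal T).colon {(U.ι.appLE V.1 T.1 e).hom r}
      suffices hK : K = ⊤ by
        have h1 : (1 : Γ(U, T.1)) ∈ K := hK ▸ Submodule.mem_top
        rw [Submodule.mem_colon_singleton, smul_eq_mul, one_mul] at h1
        exact h1
      by_contra hK
      obtain ⟨n, hn, hKn⟩ := Ideal.exists_le_maximal K hK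
      obtain ⟨z, hzT, hz⟩ := WeakAssSch.exists_point_of_prime T.2 n (hp := hn.isPrime)
      have hzV : U.ι z ∈ V.1 := e hzT
      have h2 : q ≤ (V.2.primeIdealOf ⟨U.ι z, hzV⟩).asIdeal := fun c hc => by
        rw [← IsAffineOpen.comap_primeIdealOf_appLE V.1 V.2 T.1 T.2 e hzT]
        show (U.ι.appLE V.1 T.1 e).hom c ∈ (T.2.primeIdealOf ⟨z, hzT⟩).asIdeal
        rw [hz]
        refine hKn (Submodule.mem_colon_singleton.mpr ?_)
        rw [smul_eq_mul, ← map_mul]
        exact (Extend.mem_map_iff U.ι D V (c * r)).mp ((hr c).mp hc) T e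
      rw [← hyq] at h2
      exact hyU (((AssSch.Basic.primeOf_le_iff V.2 y (U.ι z) hyV hzV).mp h2).mem_open U.2 z.2)
    letI := X.presheaf.algebra_section_stalk ⟨y, hyV⟩
    haveI := V.2.isLocalization_stalk ⟨y, hyV⟩
    obtain ⟨g, hg, he⟩ := hin y hyU V hyV
    obtain ⟨s, a, hs, ha, hgen, -⟩ :=
      Local.exists_away J (V.2.primeIdealOf ⟨y, hyV⟩).asIdeal (S := X.presheaf.stalk y) hg he
    rw [hyq] at hs
    have hqp : q ≤ p := fun c hc => (IsLocalization.AtPrime.to_map_mem_maximal_iff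
      (X.presheaf.stalk x) p c).mp (IsLocalRing.le_maximalIdeal hP.1.ne_top hc)
    refine ⟨alg a, alg (s * r), fun h0 => ?_, ?_, Ideal.mem_map_of_mem _ ha, fun hmem => ?_, ?_⟩
    · -- the equation does not vanish at `x`
      obtain ⟨t, ht⟩ := (IsLocalization.map_eq_zero_iff p.primeCompl (X.presheaf.stalk x) a).mp h0
      have hty : IsUnit (algebraMap Γ(X, V.1) (X.presheaf.stalk y) (t : Γ(X, V.1))) :=
        (IsLocalization.AtPrime.isUnit_to_map_iff (X.presheaf.stalk y) _ _).mpr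
          (show (t : Γ(X, V.1)) ∉ (V.2.primeIdealOf ⟨y, hyV⟩).asIdeal from fun h => t.2 (hqp (hyq ▸ h)))
      have ha0 : algebraMap Γ(X, V.1) (X.presheaf.stalk y) a = 0 := hty.mul_right_eq_zero.mp (by
        rw [← map_mul, ht, map_zero])
      have hJ0 : J.map (algebraMap Γ(X, V.1) (X.presheaf.stalk y)) = ⊥ := by
        rw [eq_bot_iff, Ideal.map_le_iff_le_comap]
        intro c hc
        obtain ⟨d, hd⟩ := hgen c hc
        have h3 := congrArg (algebraMap Γ(X, V.1) (X.presheaf.stalk y)) hd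
        rw [map_mul, map_mul, ha0, mul_zero] at h3
        exact ((IsLocalization.AtPrime.isUnit_to_map_iff (X.presheaf.stalk y) _ _).mpr
          (show s ∉ (V.2.primeIdealOf ⟨y, hyV⟩).asIdeal from hyq ▸ hs)).mul_right_eq_zero.mp h3
      have : g = 0 := Ideal.mem_bot.mp (hJ0 ▸ he.ge (Ideal.mem_span_singleton_self g))
      exact nonZeroDivisors.ne_zero hg this
    · exact Ideal.mem_comap.mp ((hr a).mpr (J.mul_mem_right r ha))
    · -- the class is nonzero
      have hin' : alg (s * r) ∈ J.map alg :=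
        (Ideal.span_singleton_le_iff_mem _).mpr (Ideal.mem_map_of_mem _ ha) hmem
      obtain ⟨⟨w, hw⟩, hwJ⟩ := (IsLocalization.algebraMap_mem_map_algebraMap_iff p.primeCompl
        (X.presheaf.stalk x) J (s * r)).mp hin' |> fun ⟨w, hw, h⟩ =>
          (⟨⟨w, hw⟩, h⟩ : ∃ w : p.primeCompl, (w : Γ(X, V.1)) * (s * r) ∈ J)
      have : w * s ∈ q := (hr _).mpr (by rw [mul_assoc]; exact hwJ)
      exact hs ((Ideal.IsPrime.mem_or_mem inferInstance this).resolve_left fun h => hw (hqp h))
    · intro t ht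
      obtain ⟨c, u, rfl⟩ := IsLocalization.exists_mk'_eq p.primeCompl t
      have hc : c ∈ q := Ideal.mem_comap.mpr ((IsLocalization.mk'_mem_iff (I := P)).mp ht)
      obtain ⟨d, hd⟩ := hgen _ ((hr c).mp hc)
      refine Ideal.mem_span_singleton'.mpr ⟨IsLocalization.mk' (X.presheaf.stalk x) d u, ?_⟩
      rw [mul_comm (IsLocalization.mk' _ c u), IsLocalization.mul_mk'_eq_mk'_of_mul,
        mul_comm (IsLocalization.mk' _ d u), IsLocalization.mul_mk'_eq_mk'_of_mul,
        show s * r * c = d * a by rw [← hd]; ring, mul_comm d a]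
  obtain ⟨f, hf⟩ := UFD.exists_span_of_assPrimes (J.map alg) fun P hP => by
    haveI := hP.1
    obtain ⟨g, e, hg, hgP, -, he, ht⟩ := hass P hP
    exact exists_span_of_colon P hg hgP he ht
  refine ⟨f, mem_nonZeroDivisors_of_ne_zero fun h0 => ?_, hf⟩
  have hbot : J.map alg = ⊥ := by rw [hf, h0]; simp
  haveI : Nontrivial (X.presheaf.stalk x ⧸ J.map alg) :=
    Ideal.Quotient.nontrivial_iff.mpr (by rw [hbot]; exact bot_ne_top)
  obtain ⟨P, hP⟩ := associatedPrimes.nonempty (X.presheaf.stalk x) (X.presheaf.stalk x ⧸ J.map alg)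
  obtain ⟨g, e, hg, -, hgJ, -⟩ := hass P hP
  rw [hbot] at hgJ
  exact hg hgJ

end Groth.Agent.CartDiv.ExtendUFD
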