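import Groth.Agent.IdealSh.IdealMod
import Groth.Agent.ProjProper.Basic
import Mathlib.AlgebraicGeometry.Morphisms.Proper

/-!
# Linearly equivalent nested effective divisors on a universally closed scheme are equal
-/

set_option autoImplicit false

universe u

open CategoryTheory AlgebraicGeometry TopologicalSpace
open Groth.Agent.IdealSh Groth.Agent.PullStalk.Sky Groth.Agent.Omega.Stalks OmegaSh

namespace Groth.Agent.CartDiv.Linear

/-- A nonzerodivisor integral over a field is a unit. -/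
theorem isUnit_of_isIntegral {k R : Type*} [Field k] [CommRing R] [Algebra k R] {c : R}
    (hint : IsIntegral k c) (hc : c ∈ nonZeroDivisors R) : IsUnit c := by
  obtain ⟨p, hp, hpc⟩ := hint
  obtain ⟨q, hq0, hq⟩ : ∃ q : Polynomial k, q.coeff 0 ≠ 0 ∧ Polynomial.aeval c q = 0 := by
    obtain ⟨q, hq, hnd⟩ := Polynomial.exists_eq_pow_rootMultiplicity_mul_and_not_dvd p hp.ne_zero 0
    refine ⟨q, fun h0 => hnd (by rw [map_zero, sub_zero]; exact Polynomial.X_dvd_iff.mpr h0), ?_⟩
    have h1 : Polynomial.aeval c p = 0 := hpc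
    rw [hq, map_zero, sub_zero, map_mul, map_pow, Polynomial.aeval_X] at h1
    exact (mem_nonZeroDivisors_iff_left.mp (pow_mem hc _)) _ h1
  refine isUnit_iff_exists_inv.mpr ⟨-(algebraMap k R (q.coeff 0)⁻¹) * Polynomial.aeval c q.divX, ?_⟩
  have h2 := congrArg (Polynomial.aeval c) q.X_mul_divX_add
  rw [map_add, map_mul, Polynomial.aeval_X, Polynomial.aeval_C, hq] at h2
  calc c * (-(algebraMap k R (q.coeff 0)⁻¹) * Polynomial.aeval c q.divX)
      = -(algebraMap k R (q.coeff 0)⁻¹) * (c * Polynomial.aeval c q.divX) := by ring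
    _ = algebraMap k R (q.coeff 0)⁻¹ * algebraMap k R (q.coeff 0) := by
      linear_combination -(algebraMap k R (q.coeff 0)⁻¹) * h2
    _ = 1 := by rw [← map_mul, inv_mul_cancel₀ hq0, map_one]

variable {M : Scheme.{u}}

theorem eq_of_le_of_iso {k : Type u} [Field k] (f : M ⟶ Spec (CommRingCat.of k)) [UniversallyClosed f]
    (D₁ D₂ : M.IdealSheafData) (h₁ : BlowUp.IsEffCartierIdeal D₁) (h₂ : BlowUp.IsEffCartierIdeal D₂)
    (hle : D₂ ≤ D₁) (ψ : ClSub.idealMod D₁ ≅ ClSub.idealMod D₂) : D₁ = D₂ := by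
  classical
  have hU : ∀ x : M, ∃ U : M.affineOpens, x ∈ U.1 ∧ ∃ a b : Γ(M, U.1),
      a ∈ nonZeroDivisors Γ(M, U.1) ∧ b ∈ nonZeroDivisors Γ(M, U.1) ∧
      D₁.ideal U = Ideal.span {a} ∧ D₂.ideal U = Ideal.span {b} := fun x => by
    obtain ⟨U, hx, -, h⟩ := EffCartier.exists_equation₂ h₁ h₂ x ⊤ trivial
    exact ⟨U, hx, h⟩
  choose U hxU a b ha hb hea heb using hU
  choose s hs using fun x => IdealMod.exists_sect D₁ (U x).1 (a x)
    ((IdealMod.mem_ideal_iff D₁ (U x) (a x)).mp (hea x ▸ Ideal.subset_span rfl))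
  let Ψ : ∀ V : M.Opens, Γ(ClSub.idealMod D₁, V) → Γ(M, V) := fun V m =>
    idealSect D₂ V (ψ.hom.app V m)
  have hc : ∀ x, ∃ c : Γ(M, (U x).1), c * a x = Ψ _ (s x) := fun x =>
    Ideal.mem_span_singleton'.mp (hea x ▸ hle (U x) (IdealMod.sect_mem D₂ (U x) _))
  choose c hc using hc
  have hnat : ∀ {V W : M.Opens} (h : W ≤ V) (m : Γ(ClSub.idealMod D₁, V)),
      Ψ W ((ClSub.idealMod D₁).presheaf.map (homOfLE h).op m) = M.presheaf.map (homOfLE h).op (Ψ V m) := by
    intro V W h m
    show idealSect D₂ W _ = M.presheaf.map (homOfLE h).op (idealSect D₂ V _)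
    rw [← idealSect_map]
    exact congrArg _ (congr($((Scheme.Modules.Hom.mapPresheaf ψ.hom).naturality (homOfLE h).op) m))
  have hsmul : ∀ (V : M.Opens) (r : Γ(M, V)) (m : Γ(ClSub.idealMod D₁, V)),
      Ψ V (r • m) = r * Ψ V m := fun V r m => by
    show idealSect D₂ V _ = r * idealSect D₂ V _
    rw [Scheme.Modules.Hom.app_smul, idealSect_smul]
  have key : ∀ (x : M) (W : M.affineOpens) (h : W.1 ≤ (U x).1) (m : Γ(ClSub.idealMod D₁, W.1)),
      Ψ W.1 m = M.presheaf.map (homOfLE h).op (c x) * idealSect D₁ W.1 m := by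
    intro x W h m
    have hmem := IdealMod.sect_mem D₁ W m
    rw [EffCartier.restrict_eq h (hea x), Ideal.mem_span_singleton'] at hmem
    obtain ⟨r, hr⟩ := hmem
    have hm : m = r • (ClSub.idealMod D₁).presheaf.map (homOfLE h).op (s x) :=
      idealSect_injective D₁ W.1 (by rw [idealSect_smul, idealSect_map, hs, hr])
    rw [hm, hsmul, hnat, ← hc, idealSect_smul, idealSect_map, hs, map_mul]
    ring
  have hcompat : TopCat.Presheaf.IsCompatible M.presheaf (fun x => (U x).1) c := by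
    intro x y
    refine TopCat.Presheaf.section_ext M.sheaf _ _ _ fun z hz => ?_
    obtain ⟨W, hzW, hW⟩ := Comap.exists_affine_le z ((U x).1 ⊓ (U y).1) hz
    have e := (key x W (hW.trans inf_le_left) ((ClSub.idealMod D₁).presheaf.map
      (homOfLE (hW.trans inf_le_right)).op (s y))).symm.trans
        (key y W (hW.trans inf_le_right) _)
    rw [idealSect_map, hs] at e
    have hWeq := (mul_cancel_right_mem_nonZeroDivisors
      (EffCartier.map_res_mem_nonZeroDivisors (hW.trans inf_le_right) (ha y))).mp e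
    have h3 := congrArg (M.presheaf.germ W.1 z hzW) hWeq
    rw [TopCat.Presheaf.germ_res_apply, TopCat.Presheaf.germ_res_apply] at h3
    show M.presheaf.germ _ z hz (M.presheaf.map _ (c x)) = M.presheaf.germ _ z hz (M.presheaf.map _ (c y))
    rw [TopCat.Presheaf.germ_res_apply, TopCat.Presheaf.germ_res_apply]
    exact h3
  obtain ⟨C, hC, -⟩ := M.sheaf.existsUnique_gluing' (fun x => (U x).1) ⊤ (fun x => homOfLE le_top)
    (fun x _ => Opens.mem_iSup.mpr ⟨x, hxU x⟩) c hcompat
  -- `D₂` is cut out by `c x * a x`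
  have hspan : ∀ x, D₂.ideal (U x) = Ideal.span {c x * a x} := by
    intro x
    refine le_antisymm (fun u hu => ?_) ((Ideal.span_singleton_le_iff_mem _).mpr
      (hc x ▸ IdealMod.sect_mem D₂ (U x) _))
    obtain ⟨m, hm⟩ := IdealMod.exists_sect D₂ (U x).1 u ((IdealMod.mem_ideal_iff D₂ (U x) u).mp hu)
    have h0 := key x (U x) le_rfl (ψ.inv.app (U x).1 m)
    have h1 : Ψ (U x).1 (ψ.inv.app (U x).1 m) = u := by
      show idealSect D₂ _ _ = u
      rw [← hm]
      exact congrArg _ (congr($(congrArg (fun φ => Scheme.Modules.Hom.app φ (U x).1) ψ.inv_hom_id) m))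
    rw [h1] at h0
    have hmem := IdealMod.sect_mem D₁ (U x) (ψ.inv.app (U x).1 m)
    rw [hea x, Ideal.mem_span_singleton'] at hmem
    obtain ⟨r, hr⟩ := hmem
    rw [Ideal.mem_span_singleton']
    refine ⟨r, ?_⟩
    rw [h0, ← hr, show homOfLE (le_refl (U x).1) = 𝟙 _ from rfl, op_id, CategoryTheory.Functor.map_id]
    show r * (c x * a x) = c x * (r * a x)
    ring
  have hcnz : ∀ x, c x ∈ nonZeroDivisors Γ(M, (U x).1) := fun x => by
    obtain ⟨d, hd⟩ := Ideal.mem_span_singleton'.mp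
      ((hspan x).le (heb x ▸ Ideal.mem_span_singleton_self (b x)))
    have := hb x
    rw [← hd, mul_mem_nonZeroDivisors, mul_mem_nonZeroDivisors] at this
    exact this.2.1
  have hCnz : C ∈ nonZeroDivisors Γ(M, ⊤) := Regular.mem_nonZeroDivisors_of_germ fun z hz => by
    have h := Regular.germ_mem_nonZeroDivisors (U z).2 z (hxU z) (hcnz z)
    rw [← hC z] at h
    erw [TopCat.Presheaf.germ_res_apply] at h
    exact h
  letI : Algebra k Γ(M, ⊤) := ((Scheme.ΓSpecIso (CommRingCat.of k)).inv ≫ f.appTop).hom.toAlgebra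
  have hint : _root_.IsIntegral k (show Γ(M, ⊤) from C) := by
    have h1 : ((Scheme.ΓSpecIso (CommRingCat.of k)).inv ≫ f.appTop).hom.IsIntegral :=
      RingHom.isIntegral_respectsIso.2 _ (Scheme.ΓSpecIso (CommRingCat.of k)).symm.commRingCatIsoToRingEquiv
        (isIntegral_appTop_of_universallyClosed f)
    exact h1 C
  have hCu := isUnit_of_isIntegral hint hCnz
  refine Scheme.IdealSheafData.ext_of_iSup_eq_top U
    (top_unique fun x _ => Opens.mem_iSup.mpr ⟨x, hxU x⟩) fun x => ?_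
  have hcu : IsUnit (c x) := by rw [← hC x]; exact hCu.map _
  rw [hspan x, hea x, Ideal.span_singleton_mul_left_unit hcu]

end Groth.Agent.CartDiv.Linear
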