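import Groth.Agent.S5161
import Groth.Agent.SchPoints.Basic
import Groth.Prelude.Def_FEt
import Mathlib.AlgebraicGeometry.Morphisms.Affine

/-!
# Complements of affine open immersions
-/

set_option autoImplicit false

universe u

open CategoryTheory CategoryTheory.Limits AlgebraicGeometry TopologicalSpace

namespace Groth.Agent.CartDiv.Punctured

theorem dim_le_one_of_isAffine (A : Type u) [CommRing A] [IsLocalRing A] [IsNoetherianRing A]
    (h : IsAffine (FEt.puncturedSpec A : Scheme.{u})) : ringKrullDim A ≤ 1 := by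
  have hle : (IsLocalRing.maximalIdeal A).height ≤ 1 :=
    S5161.result A (FEt.puncturedSpec A) h (IsLocalRing.closedPoint A) (fun h' => h' rfl)
      fun q _ hq => of_not_not hq
  rw [← IsLocalRing.maximalIdeal_height_eq_ringKrullDim]
  exact_mod_cast hle

variable {X : Scheme.{u}} [IsLocallyNoetherian X]

lemma preimage_eq (U : X.Opens) {ξ : X} (hξ : ξ ∉ U)
    (hgen : ∀ y : X, y ∉ U → y ⤳ ξ → y = ξ) :
    X.fromSpecStalk ξ ⁻¹ᵁ U = FEt.puncturedSpec (X.presheaf.stalk ξ) := by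
  refine Opens.ext (Set.ext fun p => ⟨fun hp e => ?_, fun hp => ?_⟩)
  · rw [Set.mem_singleton_iff.mp e] at hp
    have : X.fromSpecStalk ξ (IsLocalRing.closedPoint (X.presheaf.stalk ξ)) ∈ U := hp
    rw [Scheme.fromSpecStalk_closedPoint] at this
    exact hξ this
  · by_contra hn
    have hy : X.fromSpecStalk ξ p ⤳ ξ := by
      have : X.fromSpecStalk ξ p ∈ Set.range (X.fromSpecStalk ξ) := ⟨_, rfl⟩
      rwa [Scheme.range_fromSpecStalk] at this
    have h1 : X.fromSpecStalk ξ p = X.fromSpecStalk ξ (IsLocalRing.closedPoint (X.presheaf.stalk ξ)) :=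
      (hgen _ hn hy).trans Scheme.fromSpecStalk_closedPoint.symm
    exact hp ((X.fromSpecStalk ξ).isEmbedding.injective h1)

theorem dim_stalk_le_one (U : X.Opens) [IsAffineHom U.ι] (ξ : X) (hξ : ξ ∉ U)
    (hgen : ∀ y : X, y ∉ U → y ⤳ ξ → y = ξ) :
    ringKrullDim (X.presheaf.stalk ξ) ≤ 1 := by
  haveI : IsAffineHom (X.fromSpecStalk ξ ⁻¹ᵁ U).ι :=
    MorphismProperty.of_isPullback (isPullback_morphismRestrict (X.fromSpecStalk ξ) U) ‹_›
  have h : IsAffine (X.fromSpecStalk ξ ⁻¹ᵁ U : Scheme.{u}) :=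
    isAffine_of_isAffineHom (X.fromSpecStalk ξ ⁻¹ᵁ U).ι
  rw [preimage_eq U hξ hgen] at h
  exact dim_le_one_of_isAffine _ h

theorem dim_stalk_eq_one (U : X.Opens) [IsAffineHom U.ι] (ξ : X) (hξ : ξ ∉ U)
    (hgen : ∀ y : X, y ∉ U → y ⤳ ξ → y = ξ) (hcl : ξ ∈ closure (U : Set X)) :
    ringKrullDim (X.presheaf.stalk ξ) = 1 := by
  refine le_antisymm (dim_stalk_le_one U ξ hξ hgen) ?_
  rw [← Scheme.Opens.range_ι U] at hcl
  obtain ⟨x, hx⟩ := Groth.Agent.SchPoints.exists_specializes_of_mem_closure_range U.ι hcl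
  have hne : U.ι x ≠ ξ := fun e => hξ (e ▸ x.2)
  obtain ⟨p, hp⟩ : U.ι x ∈ Set.range (X.fromSpecStalk ξ) := by
    rw [Scheme.range_fromSpecStalk]; exact hx
  rw [← IsLocalRing.maximalIdeal_height_eq_ringKrullDim]
  refine WithBot.coe_le_coe.mpr (ENat.one_le_iff_ne_zero.mpr fun h0 => hne ?_)
  have hmin := Ideal.height_eq_zero_iff.mp h0
  have : p.asIdeal = IsLocalRing.maximalIdeal (X.presheaf.stalk ξ) :=
    le_antisymm (IsLocalRing.le_maximalIdeal p.2.ne_top)
      (hmin.2 ⟨p.2, bot_le⟩ (IsLocalRing.le_maximalIdeal p.2.ne_top))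
  rw [← hp, show p = IsLocalRing.closedPoint (X.presheaf.stalk ξ) from PrimeSpectrum.ext this,
    Scheme.fromSpecStalk_closedPoint]

end Groth.Agent.CartDiv.Punctured
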