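import Groth.Agent.FibSemi.Dims
import Mathlib.AlgebraicGeometry.Morphisms.QuasiFinite
import Mathlib.AlgebraicGeometry.Fiber
import Mathlib.Topology.JacobsonSpace
import Mathlib.RingTheory.HopkinsLevitzki
import Mathlib.RingTheory.Spectrum.Prime.Noetherian
import Mathlib.AlgebraicGeometry.Morphisms.Preimmersion
import Mathlib.AlgebraicGeometry.Morphisms.FiniteType

/-!
# Quasi-finiteness over points of dimension at most one
-/

set_option autoImplicit false
set_option linter.style.haveILetI false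

universe u

open CategoryTheory CategoryTheory.Limits AlgebraicGeometry TopologicalSpace

namespace Groth.Agent.CartDiv.QFCodimOne

variable {X Y : Scheme.{u}} (f : X ⟶ Y)

/-- A point quasi-finite over its image has no specialisations in its fibre. -/
theorem eq_of_specializes [LocallyOfFiniteType f] {η : X} (h : f.QuasiFiniteAt η) {z : X}
    (hz : f z = f η) (hs : η ⤳ z) : z = η := by
  rw [Scheme.Hom.quasiFiniteAt_iff_isOpen_singleton_asFiber] at h
  have hc : IsClosed ({f.asFiber η} : Set (f.fiber (f η))) :=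
    isClosed_singleton_of_isLocallyClosed_singleton h.isLocallyClosed
  obtain ⟨w, hw⟩ : z ∈ Set.range (f.fiberι (f η)) := by rw [f.range_fiberι]; exact hz
  have hs' : f.asFiber η ⤳ w := by
    rw [← (f.fiberι (f η)).isEmbedding.isInducing.specializes_iff, f.fiberι_asFiber, hw]
    exact hs
  rw [← hw, Set.mem_singleton_iff.mp (hs'.mem_closed hc rfl), f.fiberι_asFiber]

/-- The dimension inequality: over a one-dimensional point, specialisations of a quasi-finite point
of another fibre are closed in their fibre. -/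
theorem eq_of_specializes_of_dim_le_one [LocallyOfFiniteType f] [IsLocallyNoetherian Y] {η x z : X}
    (hη : ∀ w, f w = f η → η ⤳ w → w = η) (hηx : η ⤳ x) (hne : f η ≠ f x)
    (hd : Order.krullDim {w : Y | f η ⤳ w ∧ w ⤳ f x} ≤ 1) (hz : f z = f x) (hxz : x ⤳ z) : z = x := by
  obtain ⟨b, t, a, e, hb, ht, ha, he, hle⟩ := FibSemi.dim_inequality f hηx
  have hb1 : 1 ≤ b := by
    have hlt : (⟨x, hηx, specializes_rfl⟩ : {w : X | η ⤳ w ∧ w ⤳ x}) < ⟨η, specializes_rfl, hηx⟩ :=
      lt_of_le_not_ge (show x ≤ η from hηx) fun h : η ≤ x =>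
        hne (congrArg f.base (hηx.antisymm h).eq)
    let σ : LTSeries {w : X | η ⤳ w ∧ w ⤳ x} := (RelSeries.singleton _ (⟨x, hηx, specializes_rfl⟩ : {w : X | η ⤳ w ∧ w ⤳ x})).snoc ⟨η, specializes_rfl, hηx⟩ hlt
    have h1 := Order.LTSeries.length_le_krullDim σ
    rw [hb] at h1
    exact_mod_cast h1
  have he0 : e = 0 := by
    haveI : Subsingleton {w : X | f w = f η ∧ η ⤳ w} :=
      ⟨fun p q => Subtype.ext ((hη _ p.2.1 p.2.2).trans (hη _ q.2.1 q.2.2).symm)⟩
    have h1 : Order.krullDim {w : X | f w = f η ∧ η ⤳ w} ≤ 0 := Order.krullDim_nonpos_of_subsingleton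
    rw [he] at h1
    exact Nat.le_zero.mp (by exact_mod_cast h1)
  have ha1 : a ≤ 1 := by rw [ha] at hd; exact_mod_cast hd
  by_contra hzx
  have hlt : (⟨z, hz, hxz⟩ : {w : X | f w = f x ∧ x ⤳ w}) < ⟨x, rfl, specializes_rfl⟩ :=
    lt_of_le_not_ge (show z ≤ x from hxz) fun h : x ≤ z => hzx (hxz.antisymm h).eq.symm
  let σ : LTSeries {w : X | f w = f x ∧ x ⤳ w} := (RelSeries.singleton _ (⟨z, hz, hxz⟩ : {w : X | f w = f x ∧ x ⤳ w})).snoc ⟨x, rfl, specializes_rfl⟩ hlt
  have h1 := Order.LTSeries.length_le_krullDim σ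
  rw [ht] at h1
  have : 1 ≤ t := by exact_mod_cast h1
  omega

/-- A scheme locally of finite type over a field with only closed points is discrete. -/
theorem isOpen_singleton_of_forall {k : Type u} [Field k] {Z : Scheme.{u}}
    (g : Z ⟶ Spec (CommRingCat.of k)) [LocallyOfFiniteType g]
    (h : ∀ a b : Z, a ⤳ b → a = b) (z : Z) : IsOpen ({z} : Set Z) := by
  haveI : IsLocallyNoetherian Z := LocallyOfFiniteType.isLocallyNoetherian g
  obtain ⟨W, hW, hz, -⟩ := exists_isAffineOpen_mem_and_subset (Opens.mem_top z)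
  haveI : IsNoetherianRing Γ(Z, W) := IsLocallyNoetherian.component_noetherian ⟨W, hW⟩
  haveI : Ring.KrullDimLE 0 Γ(Z, W) := Ring.KrullDimLE.mk₀ fun p hp => by
    obtain ⟨M, hM, hle⟩ := Ideal.exists_le_maximal p hp.ne_top
    have hs : hW.fromSpec ⟨p, hp⟩ ⤳ hW.fromSpec ⟨M, hM.isPrime⟩ :=
      ((PrimeSpectrum.le_iff_specializes (R := Γ(Z, W)) ⟨p, hp⟩ ⟨M, hM.isPrime⟩).mp hle).map
        hW.fromSpec.continuous
    have e := hW.fromSpec.isOpenEmbedding.injective (h _ _ hs)
    rw [show p = M from congrArg PrimeSpectrum.asIdeal e]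
    exact hM
  haveI : IsArtinianRing Γ(Z, W) :=
    isArtinianRing_iff_isNoetherianRing_krullDimLE_zero.mpr ⟨inferInstance, inferInstance⟩
  have ho := hW.fromSpec.isOpenEmbedding.isOpenMap _
    (isOpen_discrete ({hW.primeIdealOf ⟨z, hz⟩} : Set (PrimeSpectrum Γ(Z, W))))
  convert ho using 1
  exact ((Set.image_singleton).trans (congrArg (fun t : Z => ({t} : Set Z))
    (hW.fromSpec_primeIdealOf ⟨z, hz⟩))).symm

theorem quasiFiniteAt_over [LocallyOfFiniteType f] (y : Y) [IsNoetherianRing (Y.presheaf.stalk y)]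
    (hy : ringKrullDim (Y.presheaf.stalk y) ≤ 1)
    (hgen : ∀ η : X, (∀ w : X, w ⤳ η → w = η) → f.QuasiFiniteAt η)
    (x : X) (hx : f x = y) : f.QuasiFiniteAt x := by
  let p := pullback.fst f (Y.fromSpecStalk y)
  let f' := pullback.snd f (Y.fromSpecStalk y)
  haveI : IsPreimmersion p := MorphismProperty.of_isPullback (IsPullback.of_hasPullback f (Y.fromSpecStalk y)).flip inferInstance
  have hp : Set.range p = f ⁻¹' {z | z ⤳ y} := by
    rw [Scheme.Pullback.range_fst, Scheme.range_fromSpecStalk]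
  have hcond : ∀ w, f (p w) = Y.fromSpecStalk y (f' w) := fun w => by
    rw [← Scheme.Hom.comp_apply, ← Scheme.Hom.comp_apply, pullback.condition]
  have hinjY := (Y.fromSpecStalk y).isEmbedding.injective
  -- the fibre over `y` has only closed points
  have hflat : ∀ z₁ z₂ : X, f z₁ = y → f z₂ = y → z₁ ⤳ z₂ → z₁ = z₂ := by
    intro z₁ z₂ h1 h2 hs
    obtain ⟨η, hη, hmax⟩ := exists_maximal z₁
    have hq := hgen η hmax
    by_cases he : f η = y
    · rw [eq_of_specializes f hq (h1.trans he.symm) hη,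
        eq_of_specializes f hq (h2.trans he.symm) (hη.trans hs)]
    have hηy : f η ⤳ y := h1 ▸ hη.map f.continuous
    obtain ⟨η', hη'⟩ : η ∈ Set.range p := by rw [hp]; exact hηy
    obtain ⟨w₁, hw₁⟩ : z₁ ∈ Set.range p := by rw [hp]; show f z₁ ⤳ y; rw [h1]
    obtain ⟨w₂, hw₂⟩ : z₂ ∈ Set.range p := by rw [hp]; show f z₂ ⤳ y; rw [h2]
    have hsp := fun a b : (pullback f (Y.fromSpecStalk y) : Scheme.{u}) =>
      (p.isEmbedding.isInducing.specializes_iff (x := a) (y := b))
    have hf : ∀ a b, f' a = f' b ↔ f (p a) = f (p b) := fun a b => by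
      rw [hcond, hcond]; exact hinjY.eq_iff.symm
    have hd : Order.krullDim {w : (Spec (Y.presheaf.stalk y) : Scheme.{u}) |
        f' η' ⤳ w ∧ w ⤳ f' w₁} ≤ 1 := by
      refine le_trans ?_ hy
      refine Order.krullDim_le_of_strictMono (fun a => OrderDual.toDual (a.1 : PrimeSpectrum (Y.presheaf.stalk y))) ?_ |>.trans Order.krullDim_orderDual.le
      intro a b hab
      exact lt_of_le_not_ge ((PrimeSpectrum.le_iff_specializes _ _).mpr hab.le) fun h =>
        hab.not_ge ((PrimeSpectrum.le_iff_specializes _ _).mp h)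
    have := eq_of_specializes_of_dim_le_one f' (η := η') (x := w₁) (z := w₂)
      (fun w hw hs' => p.isEmbedding.injective (by
        rw [hη']
        exact eq_of_specializes f hq (((hf w η').mp hw).trans (congrArg f.base hη')) (hη' ▸ (hsp _ _).mpr hs')))
      ((hsp _ _).mp (by rw [hη', hw₁]; exact hη))
      (fun e => he (by
        have := (hf η' w₁).mp e
        rwa [hη', hw₁, h1] at this))
      hd ((hf w₂ w₁).mpr (by rw [hw₂, hw₁, h1, h2])) ((hsp _ _).mp (by rw [hw₁, hw₂]; exact hs))
    rw [← hw₁, ← hw₂, this]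
  subst hx
  rw [Scheme.Hom.quasiFiniteAt_iff_isOpen_singleton_asFiber]
  have hlft : LocallyOfFiniteType (f.fiberToSpecResidueField (f x)) :=
    MorphismProperty.of_isPullback (IsPullback.of_hasPullback f (Y.fromSpecResidueField (f x))) inferInstance
  refine @isOpen_singleton_of_forall (Y.residueField (f x)) _ _ (f.fiberToSpecResidueField (f x)) hlft (fun a b hab => ?_) _
  have hmem : ∀ a, f (f.fiberι (f x) a) = f x := fun a => by
    have : f.fiberι (f x) a ∈ Set.range (f.fiberι (f x)) := ⟨a, rfl⟩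
    rw [f.range_fiberι] at this
    exact this
  exact (f.fiberι (f x)).isEmbedding.injective
    (hflat _ _ (hmem a) (hmem b) (hab.map (f.fiberι (f x)).continuous))
where
  exists_maximal (z : X) : ∃ η : X, η ⤳ z ∧ ∀ w : X, w ⤳ η → w = η := by
    obtain ⟨η, hη⟩ := QuasiSober.sober (isIrreducible_irreducibleComponent (x := z))
      isClosed_irreducibleComponent
    refine ⟨η, hη.specializes mem_irreducibleComponent, fun w hw => ?_⟩
    have h1 : irreducibleComponent z ≤ closure {w} := by
      rw [← hη.def]; exact hw.closure_subset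
    have h2 : closure {w} = irreducibleComponent z :=
      (eq_irreducibleComponent isIrreducible_singleton.closure.isPreirreducible h1)
    exact ((hη.specializes (h2 ▸ subset_closure rfl)).antisymm hw).eq.symm

end Groth.Agent.CartDiv.QFCodimOne
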