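import Groth.Agent.WeakAssSch.Basic
import Groth.Agent.ZClosLib.H0Spec

/-!
# Weakly associated points of `M~` on `Spec A`
-/

set_option autoImplicit false

universe u

open CategoryTheory AlgebraicGeometry TopologicalSpace

namespace Groth.Agent.CartDiv.Tilde

lemma minimalPrimes_comap_ringEquiv {A B : Type*} [CommRing A] [CommRing B] (σ : A ≃+* B)
    (I : Ideal B) (q : Ideal B) :
    q ∈ I.minimalPrimes ↔ q.comap σ.toRingHom ∈ (I.comap σ.toRingHom).minimalPrimes := by
  have h := Ideal.comap_minimalPrimes_eq_of_surjective (f := σ.toRingHom) σ.surjective I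
  rw [h]
  refine ⟨fun hq => ⟨q, hq, rfl⟩, ?_⟩
  rintro ⟨q', hq', e⟩
  rwa [← Ideal.comap_injective_of_surjective σ.toRingHom σ.surjective e]

lemma mem_weakAss_semilinear {A B : Type*} [CommRing A] [CommRing B] {M N : Type*}
    [AddCommGroup M] [Module A M] [AddCommGroup N] [Module B N] (σ : A ≃+* B) (g : M ≃+ N)
    (hg : ∀ (a : A) (m : M), g (a • m) = σ a • g m) (q : Ideal B) :
    q ∈ FlatCA.weakAss B N ↔ q.comap σ.toRingHom ∈ FlatCA.weakAss A M := by
  have key : ∀ m : M, (Submodule.span A {m}).annihilator =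
      ((Submodule.span B {g m}).annihilator).comap σ.toRingHom := fun m => by
    ext a
    rw [WeakAss.mem_ann, Ideal.mem_comap, WeakAss.mem_ann]
    show a • m = 0 ↔ σ a • g m = 0
    rw [← hg, AddEquiv.map_eq_zero_iff]
  constructor
  · rintro ⟨n, hn⟩
    obtain ⟨m, rfl⟩ := g.surjective n
    exact ⟨m, key m ▸ (minimalPrimes_comap_ringEquiv σ _ q).mp hn⟩
  · rintro ⟨m, hm⟩
    rw [key] at hm
    exact ⟨g m, (minimalPrimes_comap_ringEquiv σ _ q).mpr hm⟩

theorem isWeakAssPoint_tilde_iff (A : CommRingCat.{u}) (M : ModuleCat.{u} A) (p : Spec A) :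
    Curv2.IsWeakAssPoint (tilde M) p ↔ p.asIdeal ∈ FlatCA.weakAss A M := by
  let f := tilde.toOpen M ⊤
  have hi : IsIso f := tilde.isIso_toOpen_top
  have hf : Function.Bijective f.hom := @ConcreteCategory.bijective_of_isIso _ _ _ _ _ _ _ _ f hi
  let σ : A ≃+* Γ(Spec A, ⊤) := (Scheme.ΓSpecIso A).symm.commRingCatIsoToRingEquiv
  let g : M ≃+ Γ(tilde M, ⊤) := AddEquiv.ofBijective f.hom.toAddMonoidHom hf
  have hg : ∀ (a : A) (m : M), g (a • m) = σ a • g m := fun a m =>
    (map_smul f.hom a m).trans (ZClosLib.H0Spec.smul_top (tilde M) _ (f.hom m))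
  rw [WeakAssSch.isWeakAssPoint_iff_mem (tilde M) (isAffineOpen_top (Spec A)) p trivial,
    mem_weakAss_semilinear σ g hg]
  have h1 : ((isAffineOpen_top (Spec A)).fromSpec.base
      ((isAffineOpen_top (Spec A)).primeIdealOf ⟨p, trivial⟩)) = p :=
    (isAffineOpen_top (Spec A)).fromSpec_primeIdealOf ⟨p, trivial⟩
  rw [IsAffineOpen.fromSpec_top, Scheme.isoSpec_Spec_inv] at h1
  exact Iff.of_eq (congrArg (· ∈ FlatCA.weakAss A M) (congrArg PrimeSpectrum.asIdeal h1))

end Groth.Agent.CartDiv.Tilde
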